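import Cfsg.Agent.Lib.RegLinear.Basic
import Mathlib.FieldTheory.Finite.GaloisField
import Mathlib.NumberTheory.LegendreSymbol.QuadraticChar.Basic

/-! Regular linear groups with an irreducible cyclic normal subgroup. -/

namespace CfsgLib.RegLinear

open Subgroup

variable {p : ℕ} [Fact p.Prime] {V : Type*} [AddCommGroup V] [Module (ZMod p) V] [Finite V]
  {H : Subgroup (V ≃ₗ[ZMod p] V)} {A : Subgroup H}

/-- A group mapping onto a group of order two has a subgroup of index two. -/
theorem index_two_of_hom {G : Type*} [Group G] {T : Type*} [Group T] (f : G →* T)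
    (hf : Function.Surjective f) (hT : Nat.card T = 2) :
    ∃ N : Subgroup G, N.Normal ∧ N.index = 2 :=
  ⟨f.ker, inferInstance, by rw [index_ker, MonoidHom.range_eq_top.mpr hf, card_top, hT]⟩

/-- A cyclic group of even order has a subgroup of index two, lifted along a homomorphism. -/
theorem index_two_of_even_range {G : Type*} [Group G] {T : Type*} [Group T] (f : G →* T)
    (hc : IsCyclic f.range) (heven : 2 ∣ Nat.card f.range) :
    ∃ N : Subgroup G, N.Normal ∧ N.index = 2 := by
  refine index_two_of_hom (((ZMod.castHom heven (ZMod 2)).toAddMonoidHom.toMultiplicative).comp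
    ((zmodCyclicMulEquiv hc).symm.toMonoidHom.comp f.rangeRestrict)) ?_ ?_
  · simp only [MonoidHom.coe_comp]
    refine Function.Surjective.comp ?_
      ((zmodCyclicMulEquiv hc).symm.surjective.comp f.rangeRestrict_surjective)
    intro y
    obtain ⟨x, hx⟩ := ZMod.castHom_surjective heven y.toAdd
    exact ⟨Multiplicative.ofAdd x, congrArg Multiplicative.ofAdd hx⟩
  · rw [Nat.card_congr Multiplicative.toAdd, Nat.card_zmod]

/-- The conjugation action on the field of a normal abelian subgroup. -/
theorem exists_conjHom (hAn : A.Normal) :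
    ∃ ψ : H →* (alg A ≃ₐ[ZMod p] alg A),
      ∀ h r, ((ψ h r : alg A) : Module.End (ZMod p) V) = act H h * r.1 * act H h⁻¹ := by
  refine ⟨{
        toFun := fun h =>
          { toFun := fun r => ⟨act H h * r.1 * act H h⁻¹, alg_conj hAn h r.2⟩
            invFun := fun r => ⟨act H h⁻¹ * r.1 * act H h, by
              have := alg_conj hAn h⁻¹ r.2
              rwa [inv_inv] at this⟩
            left_inv := fun r => Subtype.ext (by
              show act H h⁻¹ * (act H h * r.1 * act H h⁻¹) * act H h = r.1
              rw [← mul_assoc, ← mul_assoc, act_inv_mul, one_mul, mul_assoc, act_inv_mul, mul_one])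
            right_inv := fun r => Subtype.ext (by
              show act H h * (act H h⁻¹ * r.1 * act H h) * act H h⁻¹ = r.1
              rw [← mul_assoc, ← mul_assoc, act_mul_inv, one_mul, mul_assoc, act_mul_inv, mul_one])
            map_mul' := fun r s => Subtype.ext (by
              show act H h * (r.1 * s.1) * act H h⁻¹ = _ * _
              simp only [mul_assoc]
              rw [← mul_assoc (act H h⁻¹) (act H h), act_inv_mul, one_mul])
            map_add' := fun r s => Subtype.ext (by
              show act H h * (r.1 + s.1) * act H h⁻¹ = _ + _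
              rw [mul_add, add_mul])
            commutes' := fun c => Subtype.ext (by
              show act H h * algebraMap _ _ c * act H h⁻¹ = algebraMap _ _ c
              rw [← Algebra.commutes, mul_assoc, act_mul_inv, mul_one]) }
        map_one' := AlgEquiv.ext fun r => Subtype.ext (by
          show act H 1 * r.1 * act H 1⁻¹ = r.1
          simp)
        map_mul' := fun g h => AlgEquiv.ext fun r => Subtype.ext (by
          show act H (g * h) * r.1 * act H (g * h)⁻¹ =
            act H g * (act H h * r.1 * act H h⁻¹) * act H g⁻¹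
          rw [mul_inv_rev, map_mul, map_mul]
          simp only [mul_assoc]) }, fun h r => rfl⟩

/-- The one-dimensional semilinear structure. -/
theorem semilinear_structure (hreg : Reg H) [Nontrivial V] (hAn : A.Normal)
    (hAc : IsMulCommutative A)
    (hirr : ∀ W : Submodule (ZMod p) V, (∀ a ∈ A, ∀ w ∈ W, act H a w ∈ W) → W = ⊥ ∨ W = ⊤) :
    (∃ (F : Type) (_ : Field F) (_ : Fintype F) (e : V ≃+ F),
      ∀ h : H, ∃ (a : F) (σ : F ≃+* F), ∀ v : V, e (act H h v) = a * σ (e v)) ∧
    (p ≠ 2 → ∃ N : Subgroup H, N.Normal ∧ N.index = 2) := by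
  classical
  letI : Field (alg A) := (alg_isField hreg hAn hAc).toField
  have : Finite (alg A) := Subtype.finite
  letI : Fintype (alg A) := Fintype.ofFinite _
  obtain ⟨v, hv⟩ := exists_ne (0 : V)
  obtain ⟨W, hvW, -, hWinv, hWle, -⟩ := exists_minimal hreg hAn hAc hv
  let ev : alg A →ₗ[ZMod p] V :=
    { toFun := fun r => (r : Module.End (ZMod p) V) v
      map_add' := fun _ _ => rfl
      map_smul' := fun _ _ => rfl }
  have hev : Function.Injective ev := by
    rw [← LinearMap.ker_eq_bot, LinearMap.ker_eq_bot']
    exact fun r hr => Subtype.ext (eq_zero_of_apply hreg hAn hAc r.2 hv hr)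
  have hsurj : Function.Surjective ev := by
    have hinv : ∀ a ∈ A, ∀ w ∈ LinearMap.range ev, act H a w ∈ LinearMap.range ev := by
      rintro a ha _ ⟨r, rfl⟩
      exact ⟨⟨act H a * r.1, mul_mem (act_mem ha) r.2⟩, rfl⟩
    rcases hirr _ hinv with h | h
    · have h1 : ev 1 ∈ LinearMap.range ev := ⟨1, rfl⟩
      rw [h, Submodule.mem_bot] at h1
      exact absurd h1 hv
    · exact LinearMap.range_eq_top.mp h
  let E : alg A ≃ₗ[ZMod p] V := LinearEquiv.ofBijective ev ⟨hev, hsurj⟩
  obtain ⟨ψ, hψ⟩ := exists_conjHom (p := p) (V := V) (H := H) hAn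
  let α : H → alg A := fun h => E.symm (act H h v)
  have hα : ∀ h, (α h).1 v = act H h v := fun h => E.apply_symm_apply _
  have hact : ∀ (h : H) (r : alg A), act H h (E r) = E (α h * ψ h r) := by
    intro h r
    show act H h (r.1 v) = (α h * ψ h r).1 v
    rw [mul_comm, Subalgebra.coe_mul, Module.End.mul_apply, hα, hψ, Module.End.mul_apply,
      Module.End.mul_apply, ← Module.End.mul_apply (f := act H h⁻¹), act_inv_mul,
      Module.End.one_apply]
  constructor
  · have hn : Module.finrank (ZMod p) (alg A) ≠ 0 := Module.finrank_pos.ne'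
    letI : Fintype (GaloisField p (Module.finrank (ZMod p) (alg A))) := Fintype.ofFinite _
    let φ : alg A ≃+* GaloisField p (Module.finrank (ZMod p) (alg A)) :=
      FiniteField.ringEquivOfCardEq (by
        rw [← Nat.card_eq_fintype_card, ← Nat.card_eq_fintype_card, GaloisField.card p _ hn,
          Module.natCard_eq_pow_finrank (K := ZMod p) (V := alg A), Nat.card_zmod])
    refine ⟨GaloisField p (Module.finrank (ZMod p) (alg A)), inferInstance, inferInstance,
      E.symm.toAddEquiv.trans φ.toAddEquiv, fun h => ⟨φ (α h),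
        (φ.symm.trans (ψ h).toRingEquiv).trans φ, fun w => ?_⟩⟩
    obtain ⟨r, rfl⟩ := E.surjective w
    show φ (E.symm (act H h (E r))) = φ (α h) * φ (ψ h (φ.symm (φ (E.symm (E r)))))
    rw [hact, E.symm_apply_apply, E.symm_apply_apply, φ.symm_apply_apply, map_mul]
  intro hp
  have hα0 : ∀ h, α h ≠ 0 := by
    intro h h0
    have h1 := hα h
    rw [h0] at h1
    exact hv ((h : V ≃ₗ[ZMod p] V).map_eq_zero_iff.mp h1.symm)
  have hαmul : ∀ g h, α (g * h) = α g * ψ g (α h) := by
    intro g h
    apply E.injective
    rw [← hact]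
    show (α (g * h)).1 v = act H g ((α h).1 v)
    rw [hα, hα, map_mul, Module.End.mul_apply]
  have hch : ringChar (alg A) ≠ 2 := by
    have : CharP (alg A) p :=
      charP_of_injective_algebraMap (algebraMap (ZMod p) (alg A)).injective p
    rwa [ringChar.eq (alg A) p]
  have hqinv : ∀ (g : H) (r : alg A), quadraticChar (alg A) (ψ g r) = quadraticChar (alg A) r := by
    intro g r
    by_cases hr : r = 0
    · rw [hr, map_zero]
    have hr' : ψ g r ≠ 0 := by rwa [ne_eq, EmbeddingLike.map_eq_zero_iff]
    have hsq : IsSquare (ψ g r) ↔ IsSquare r :=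
      ⟨fun h => by simpa using h.map (ψ g).symm, fun h => h.map (ψ g)⟩
    rcases quadraticChar_dichotomy hr with h1 | h1
    · rw [h1, quadraticChar_one_iff_isSquare hr', hsq, ← quadraticChar_one_iff_isSquare hr, h1]
    · rw [h1, quadraticChar_neg_one_iff_not_isSquare, hsq,
        ← quadraticChar_neg_one_iff_not_isSquare, h1]
  let χ : H →* ℤˣ := MonoidHom.toHomUnits
    { toFun := fun h => quadraticChar (alg A) (α h)
      map_one' := by
        have : α 1 = 1 := by
          apply E.injective
          show (α 1).1 v = (1 : Module.End (ZMod p) V) v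
          rw [hα, map_one]
        show quadraticChar (alg A) (α 1) = 1
        rw [this, map_one]
      map_mul' := fun g h => by
        show quadraticChar (alg A) (α (g * h)) = _
        rw [hαmul, map_mul, hqinv] }
  by_cases hχ : ∃ h, χ h ≠ 1
  · obtain ⟨h, hh⟩ := hχ
    refine index_two_of_hom χ (fun y => ?_) (by rw [Nat.card_eq_fintype_card]; decide)
    rcases Int.units_eq_one_or y with rfl | rfl
    · exact ⟨1, map_one χ⟩
    · exact ⟨h, (Int.units_eq_one_or (χ h)).resolve_left hh⟩
  simp only [not_exists, not_not] at hχ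
  refine index_two_of_even_range ψ inferInstance ?_
  have hker : ∀ h ∈ ψ.ker, act H h = (α h).1 := by
    intro h hh
    refine LinearMap.ext fun w => ?_
    obtain ⟨r, rfl⟩ := E.surjective w
    rw [hact, MonoidHom.mem_ker.mp hh]
    show (α h * r).1 v = (α h).1 (r.1 v)
    rfl
  let f : ψ.ker →* (alg A)ˣ := MonoidHom.toHomUnits
    { toFun := fun h => α h
      map_one' := Subtype.ext (by
        show (α 1).1 = 1
        rw [← hker 1 (one_mem _), map_one])
      map_mul' := fun g h => Subtype.ext (by
        show (α ((g : H) * h)).1 = (α g).1 * (α h).1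
        rw [← hker _ (mul_mem g.2 h.2), ← hker _ g.2, ← hker _ h.2, map_mul]) }
  have hf : Function.Injective f := fun g h he => Subtype.ext (act_injective (by
    rw [hker _ g.2, hker _ h.2]
    exact congrArg (fun u : (alg A)ˣ => (u : alg A).1) he))
  have hle : f.range ≤ (powMonoidHom 2 : (alg A)ˣ →* (alg A)ˣ).range := by
    rintro _ ⟨h, rfl⟩
    have h1 : quadraticChar (alg A) (α h) = 1 := congrArg Units.val (hχ h)
    obtain ⟨s, hs⟩ := (quadraticChar_one_iff_isSquare (hα0 h)).mp h1
    have hs0 : s ≠ 0 := fun h0 => hα0 h (by rw [hs, h0, mul_zero])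
    exact ⟨Units.mk0 s hs0, Units.ext (by
      show s ^ 2 = α h
      rw [hs, pow_two])⟩
  have hdiv : Nat.card ψ.ker ∣ Nat.card (powMonoidHom 2 : (alg A)ˣ →* (alg A)ˣ).range := by
    refine dvd_trans (dvd_of_eq ?_) (Subgroup.card_dvd_of_le hle)
    exact Nat.card_congr (MonoidHom.ofInjective hf).toEquiv
  have htwo : (powMonoidHom 2 : (alg A)ˣ →* (alg A)ˣ).range.index = 2 := by
    rw [IsCyclic.index_powMonoidHom_range]
    apply Nat.gcd_eq_right
    have hneg : (-1 : (alg A)ˣ) ≠ 1 := fun he =>
      Ring.neg_one_ne_one_of_char_ne_two hch (congrArg Units.val he)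
    have ho : orderOf (-1 : (alg A)ˣ) = 2 := orderOf_eq_prime (by rw [neg_one_sq]) hneg
    exact ho ▸ orderOf_dvd_natCard _
  have hH : Nat.card H = Nat.card (alg A)ˣ := by
    have h1 := hreg.card_eq
    rw [← Nat.card_congr E.toEquiv, ← Nat.sub_add_cancel (show 1 ≤ Nat.card (alg A) from Nat.card_pos), ← Nat.card_units] at h1
    omega
  have h2 := (powMonoidHom 2 : (alg A)ˣ →* (alg A)ˣ).range.card_mul_index
  rw [htwo, ← hH, ← ψ.ker.card_mul_index, index_ker] at h2
  obtain ⟨k, hk⟩ := hdiv
  rw [hk, mul_assoc] at h2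
  exact ⟨k, (Nat.eq_of_mul_eq_mul_left Nat.card_pos h2).symm.trans (mul_comm k 2)⟩

end CfsgLib.RegLinear
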