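import Cfsg.Agent.Lib.RegLinear.Final
import Cfsg.Agent.Lib.RegLinear.Semilinear
import Cfsg.Agent.Lib.Large.SLTwoThree

/-! The solvable exceptional regular linear groups: index two, `SL(2,3)`, `SL(2,3) × C₅`. -/

namespace CfsgLib.RegLinear

open Subgroup

def frameMap (u w : QuaternionGroup 2) : QuaternionGroup 2 → QuaternionGroup 2
  | .a i => u ^ i.val
  | .xa i => w * u ^ i.val

set_option synthInstance.maxSize 4000 in
theorem q8_frame : ∀ u w : QuaternionGroup 2,
    (∀ x y, frameMap u w (x * y) = frameMap u w x * frameMap u w y) →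
    (∀ x, frameMap u w (frameMap u w (frameMap u w x)) = x) → (∃ x, frameMap u w x ≠ x) →
    ∃ i, i ^ 4 = 1 ∧ frameMap u w i * frameMap u w i = i ^ 2 ∧
      frameMap u w i * i = i ^ 3 * frameMap u w i ∧
      frameMap u w (frameMap u w i) = i * frameMap u w i ∧
      i ≠ 1 ∧ frameMap u w i ≠ 1 ∧
      ∀ x, ∃ a b : Fin 4, i ^ (a : ℕ) * frameMap u w i ^ (b : ℕ) = x := by
  decide +kernel

theorem q8_hom_eq (g : QuaternionGroup 2 →* QuaternionGroup 2) (x : QuaternionGroup 2) :
    g x = frameMap (g (.a 1)) (g (.xa 0)) x := by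
  cases x with
  | a i =>
    show g _ = g (.a 1) ^ i.val
    rw [← map_pow, QuaternionGroup.a_one_pow, ZMod.natCast_zmod_val]
  | xa i =>
    show g _ = g (.xa 0) * g (.a 1) ^ i.val
    rw [← map_pow, ← map_mul, QuaternionGroup.a_one_pow, ZMod.natCast_zmod_val,
      QuaternionGroup.xa_mul_a, zero_add]

theorem card_center_q8 : Nat.card (center (QuaternionGroup 2)) = 2 := by
  have h : ((center (QuaternionGroup 2) : Subgroup _) : Set (QuaternionGroup 2)) =
      {1, QuaternionGroup.a 2} := by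
    ext x
    simp only [SetLike.mem_coe, Subgroup.mem_center_iff, Set.mem_insert_iff, Set.mem_singleton_iff]
    revert x
    decide
  rw [← SetLike.coe_sort_coe, Nat.card_coe_set_eq, h, Set.ncard_pair (by decide)]

theorem units_eleven_a : ∀ u : (ZMod 11)ˣ, u ^ 5 = 1 → u ≠ 1 → (u ^ 2) ^ 2 ≠ 1 := by decide

theorem units_eleven_b : ∀ u : (ZMod 11)ˣ, (u ^ 2) ^ 4 = 1 → u ^ 2 = 1 := by decide

/-- Recognition of `SL(2,3)`. -/
theorem sl23_of_quaternion {U : Type*} [Group U] [Finite U] (hU : Nat.card U = 24)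
    (N : Subgroup U) [N.Normal] (hN : Nonempty (N ≃* QuaternionGroup 2))
    (h3 : ∀ w ∈ centralizer (N : Set U), w ^ 3 = 1 → w = 1) :
    Nonempty (U ≃* Matrix.SpecialLinearGroup (Fin 2) (ZMod 3)) := by
  obtain ⟨e⟩ := hN
  have : Fact (Nat.Prime 3) := ⟨Nat.prime_three⟩
  obtain ⟨W, hW⟩ := exists_prime_orderOf_dvd_card' (G := U) 3 (by rw [hU]; norm_num)
  have hW3 : W ^ 3 = 1 := hW ▸ pow_orderOf_eq_one W
  let α : MulAut (QuaternionGroup 2) := MulAut.congr e (MulAut.conjNormal W)
  have hα : ∀ x, ((e.symm (α x) : N) : U) = W * e.symm x * W⁻¹ := by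
    intro x
    show ((e.symm (e (MulAut.conjNormal W (e.symm x)))) : U) = _
    rw [e.symm_apply_apply, MulAut.conjNormal_apply]
  set g := frameMap (α (.a 1)) (α (.xa 0)) with hg
  have hgα : ∀ x, g x = α x := fun x => (q8_hom_eq α.toMonoidHom x).symm
  obtain ⟨i, h4, hsq, hji, hwj, -, -, hgen⟩ := q8_frame (α (.a 1)) (α (.xa 0))
    (fun x y => by show g _ = g _ * g _; rw [hgα, hgα, hgα, map_mul])
    (fun x => by
      show g (g (g x)) = x
      rw [hgα, hgα, hgα]
      have : α ^ 3 = 1 := by rw [← map_pow, ← map_pow, hW3, map_one, map_one]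
      exact congrArg (fun a : MulAut (QuaternionGroup 2) => a x) this)
    (by
      by_contra hno
      simp only [not_exists, not_not] at hno
      have hmem : W ∈ centralizer (N : Set U) := mem_centralizer_iff.mpr fun n hn => by
        have h1 := hα (e ⟨n, hn⟩)
        rw [show α (e ⟨n, hn⟩) = e ⟨n, hn⟩ from (hgα _).symm.trans (hno _),
          e.symm_apply_apply] at h1
        exact eq_mul_inv_iff_mul_eq.mp h1
      have := h3 W hmem hW3
      rw [this, orderOf_one] at hW
      norm_num at hW)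
  change g i * g i = i ^ 2 at hsq
  change g i * i = i ^ 3 * g i at hji
  change g (g i) = i * g i at hwj
  change ∀ x, ∃ a b : Fin 4, i ^ (a : ℕ) * g i ^ (b : ℕ) = x at hgen
  rw [hgα] at hsq hji hwj
  rw [hgα] at hwj
  have coe : ∀ {x y : QuaternionGroup 2}, x = y → ((e.symm x : N) : U) = e.symm y :=
    fun h => by rw [h]
  have hrel : CfsgLib.Large.SLTwoThree.Rel ((e.symm i : N) : U) (e.symm (α i) : N) W :=
    { four := by simpa using coe h4
      sq := by simpa using coe hsq
      ji := by simpa using coe hji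
      three := hW3
      wi := by rw [hα, inv_mul_cancel_right]
      wj := by
        have h1 := hα (α i)
        rw [hwj, map_mul, Subgroup.coe_mul] at h1
        rw [h1, inv_mul_cancel_right] }
  refine CfsgLib.Large.SLTwoThree.nonempty_equiv hrel hU fun H hI hJ hWH => ?_
  have hNH : N ≤ H := by
    intro n hn
    obtain ⟨a, b, hab⟩ := hgen (e ⟨n, hn⟩)
    rw [hgα] at hab
    have h1 : ((e.symm i : N) : U) ^ (a : ℕ) * ((e.symm (α i) : N) : U) ^ (b : ℕ) = n := by
      have := coe hab
      simpa using this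
    rw [← h1]
    exact mul_mem (pow_mem hI _) (pow_mem hJ _)
  have h8 : 8 ∣ Nat.card H := by
    have h1 := Subgroup.card_dvd_of_le hNH
    rwa [Nat.card_congr e.toEquiv, Nat.card_eq_fintype_card, QuaternionGroup.card] at h1
  have h3' : 3 ∣ Nat.card H := hW ▸ Subgroup.orderOf_dvd_natCard H hWH
  refine eq_top_of_card_eq _ ?_
  have h24 : 24 ∣ Nat.card H := (show Nat.Coprime 8 3 by norm_num).mul_dvd_of_dvd_of_dvd h8 h3'
  exact (Nat.dvd_antisymm (Subgroup.card_subgroup_dvd_card H) (hU ▸ h24))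

variable {p : ℕ} [Fact p.Prime] {V : Type*} [AddCommGroup V] [Module (ZMod p) V] [Finite V]
  {H : Subgroup (V ≃ₗ[ZMod p] V)}

/-- Consequences of the quaternion case. -/
theorem q8_consequences (hreg : Reg H) (hI : NoIrrCyclic H) (hsolv : Group.IsSolvable H) :
    (∃ N : Subgroup H, N.Normal ∧ N.index = 2) ∨
      (Nat.card V = 25 ∧ Nonempty (H ≃* Matrix.SpecialLinearGroup (Fin 2) (ZMod 3))) ∨
      (Nat.card V = 121 ∧ Nonempty (H ≃* Matrix.SpecialLinearGroup (Fin 2) (ZMod 3) ×
        Multiplicative (ZMod 5))) := by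
  have := hI.nontrivial
  obtain ⟨A, hAn, hAc, hmax⟩ := exists_max_abelian H
  have hCna := (centralizer_not_comm hreg hI hAn hAc hmax).2
  obtain ⟨N, hNn, hNle, hNna, hNmin⟩ :=
    exists_minimal_normal (D := centralizer (A : Set H)) inferInstance hCna
  rcases minimal_cases hreg hAn hAc hmax hNn hNle hNna hNmin with hN | ⟨⟨θ⟩⟩
  swap
  · exfalso
    apply not_isSolvable_sl25
    have : Group.IsSolvable N := inferInstance
    exact Group.isSolvable_of_surjective (f := θ.toMonoidHom) θ.surjective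
  obtain ⟨hC, hV, hp, -⟩ := q8_case hreg hAn hAc hmax hNn hNle hN
  obtain ⟨e⟩ := hN
  have hpair := hasPair_of_cases (N := N) (Or.inl ⟨e⟩)
  obtain ⟨hAcyc, hd, hAdvd, -⟩ := cyclic_and_card hreg hAn hAc
  obtain ⟨m, hm, hVm, hm2, -⟩ := exists_dim hreg hAn hAc
  have hdeg : deg A = 1 := by
    rw [hV, ← pow_mul] at hVm
    have h1 := Nat.pow_right_injective (Fact.out : p.Prime).two_le hVm
    have := Nat.mul_le_mul_left (deg A) (hm2 hCna)
    omega
  rw [hdeg, pow_one] at hAdvd
  set ψ : H →* MulAut (QuaternionGroup 2) :=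
    (MulAut.congr e).toMonoidHom.comp MulAut.conjNormal with hψ
  have hker : ψ.ker = A := by
    rw [← inf_centralizer_eq hreg hAn hAc hmax hNn hNle hpair, hC, top_inf_eq]
    ext h
    rw [MonoidHom.mem_ker, mem_centralizer_iff]
    constructor
    · intro hh n hn
      have h' : (MulAut.conjNormal h : MulAut N) = 1 :=
        (MulAut.congr e).injective (hh.trans (map_one _).symm)
      have := congrArg Subtype.val (congrArg (fun f : MulAut N => f ⟨n, hn⟩) h')
      simp only [MulAut.conjNormal_apply, MulAut.one_apply] at this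
      rw [mul_inv_eq_iff_eq_mul] at this
      exact this.symm
    · intro hh
      show MulAut.congr e (MulAut.conjNormal h) = 1
      rw [show (MulAut.conjNormal h : MulAut N) = 1 from MulEquiv.ext fun n => Subtype.ext (by
        rw [MulAut.conjNormal_apply, MulAut.one_apply, ← hh _ n.2, mul_inv_cancel_right]), map_one]
  obtain ⟨θ⟩ := Cfsg.Agent.S3742.result
  by_cases hodd : ∃ h, Equiv.Perm.sign (θ (ψ h)) ≠ 1
  · left
    obtain ⟨h, hh⟩ := hodd
    refine index_two_of_hom (Equiv.Perm.sign.comp (θ.toMonoidHom.comp ψ)) (fun y => ?_)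
      (by rw [Nat.card_eq_fintype_card]; decide)
    rcases Int.units_eq_one_or y with rfl | rfl
    · exact ⟨1, map_one _⟩
    · exact ⟨h, (Int.units_eq_one_or _).resolve_left hh⟩
  simp only [not_exists, not_not] at hodd
  have h12 : Nat.card ψ.range ∣ 12 := by
    have hle : ψ.range.map θ.toMonoidHom ≤ alternatingGroup (Fin 4) := by
      rintro _ ⟨_, ⟨h, rfl⟩, rfl⟩
      exact hodd h
    have := Subgroup.card_dvd_of_le hle
    rwa [Subgroup.card_map_of_injective θ.injective, nat_card_alternatingGroup, Nat.card_fin]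
      at this
  have hcard : Nat.card A * Nat.card ψ.range = Nat.card H := by
    rw [← hker, ← index_ker, card_mul_index]
  have hH : Nat.card H + 1 = p ^ 2 := hV ▸ hreg.card_eq
  have hA0 : Nat.card A ≤ p - 1 := Nat.le_of_dvd (by
    have := (Fact.out : p.Prime).two_le; omega) hAdvd
  have hR0 : Nat.card ψ.range ≤ 12 := Nat.le_of_dvd (by norm_num) h12
  have h4R : 4 ∣ Nat.card ψ.range := by
    set ξ := ψ.comp N.subtype with hξ
    have hle : ξ.ker ≤ center N := by
      intro n hn
      have hnA : (n : H) ∈ A := hker ▸ hn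
      exact Subgroup.mem_center_iff.mpr fun k => Subtype.ext
        (mem_centralizer_iff.mp (hNle k.2) _ hnA).symm
    have hc2 : Nat.card (center N) = 2 := by
      rw [Nat.card_congr (Subgroup.centerCongr e).toEquiv]
      exact card_center_q8
    have h2 : Nat.card ξ.ker ∣ 2 := (Subgroup.card_dvd_of_le hle).trans hc2.dvd
    have h8 : Nat.card ξ.ker * Nat.card ξ.range = 8 := by
      rw [← index_ker, card_mul_index, Nat.card_congr e.toEquiv, Nat.card_eq_fintype_card,
        QuaternionGroup.card]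
    have h4 : 4 ∣ Nat.card ξ.range := by
      rcases (Nat.dvd_prime Nat.prime_two).mp h2 with h | h <;> rw [h] at h8 <;> omega
    exact h4.trans (Subgroup.card_dvd_of_le (by rintro _ ⟨n, rfl⟩; exact ⟨n, rfl⟩))
  have hR : Nat.card ψ.range = 4 ∨ Nat.card ψ.range = 12 := by
    have hR8 : Nat.card ψ.range ≠ 8 := fun h => by rw [h] at h12; norm_num at h12
    have := Nat.card_pos (α := ψ.range)
    omega
  have hp' : (p = 5 ∧ Nat.card H = 24 ∧ Nat.card A = 2) ∨
      (p = 11 ∧ Nat.card H = 120 ∧ Nat.card A = 10) := by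
    have hprod := Nat.mul_le_mul hA0 hR0
    obtain ⟨c, hc⟩ := hAdvd
    generalize Nat.card ψ.range = r at *
    rcases hp with rfl | rfl | rfl | rfl | rfl
    · exfalso
      exact not_noIrrCyclic_nine hreg rfl (by rw [hV]; norm_num) ⟨e⟩ hI
    · refine Or.inl ⟨rfl, by omega, ?_⟩
      have : Nat.card A ≤ 4 := by omega
      generalize Nat.card A = a at *
      rcases hR with rfl | rfl <;> interval_cases a <;> omega
    · exfalso
      have : Nat.card A ≤ 6 := by omega
      generalize Nat.card A = a at *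
      rcases hR with rfl | rfl <;> interval_cases a <;> omega
    · refine Or.inr ⟨rfl, by omega, ?_⟩
      have : Nat.card A ≤ 10 := by omega
      generalize Nat.card A = a at *
      rcases hR with rfl | rfl <;> interval_cases a <;> omega
    · exfalso
      omega
  have h3A : ¬ 3 ∣ Nat.card A := by
    rcases hp' with ⟨-, -, h⟩ | ⟨-, -, h⟩ <;> rw [h] <;> norm_num
  have hcN : ∀ w ∈ centralizer (N : Set H), w ^ 3 = 1 → w = 1 := by
    intro w hw hw3
    have hwA : w ∈ A := by
      rw [← inf_centralizer_eq hreg hAn hAc hmax hNn hNle hpair]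
      exact ⟨hC ▸ mem_top w, hw⟩
    refine orderOf_eq_one_iff.mp ((Nat.dvd_prime Nat.prime_three).mp
      (orderOf_dvd_of_pow_eq_one hw3) |>.resolve_right fun h => h3A ?_)
    exact h ▸ Subgroup.orderOf_dvd_natCard A hwA
  rcases hp' with ⟨rfl, hH24, -⟩ | ⟨rfl, hH120, hA10⟩
  · exact Or.inr (Or.inl ⟨by rw [hV]; norm_num, sl23_of_quaternion hH24 N ⟨e⟩ hcN⟩)
  refine Or.inr (Or.inr ⟨by rw [hV]; norm_num, ?_⟩)
  have : Fact (Nat.Prime 5) := ⟨by norm_num⟩
  obtain ⟨b, hb⟩ := exists_prime_orderOf_dvd_card' (G := A) 5 (by rw [hA10]; norm_num)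
  rw [← Subgroup.orderOf_coe] at hb
  set δ : H →* (ZMod 11)ˣ := (powMonoidHom 2).comp
    ((LinearEquiv.det : (V ≃ₗ[ZMod 11] V) →* (ZMod 11)ˣ).comp H.subtype) with hδ
  have hunit := units_eleven_a
  have hfr : Module.finrank (ZMod 11) V = 2 := by
    rw [Module.natCard_eq_pow_finrank (K := ZMod 11), Nat.card_zmod] at hV
    exact Nat.pow_right_injective (by norm_num) hV
  have hbδ : δ b ≠ 1 := by
    have hbot : alg A = ⊥ := Subalgebra.eq_bot_of_finrank_one hdeg
    obtain ⟨c, hc⟩ := Algebra.mem_bot.mp (hbot ▸ act_mem b.2 : act H b ∈ (⊥ : Subalgebra _ _))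
    have hc5 : c ^ 5 = 1 := by
      apply (algebraMap (ZMod 11) (Module.End (ZMod 11) V)).injective
      rw [map_pow, hc, ← map_pow, ← hb, pow_orderOf_eq_one, map_one, map_one]
    have hc1 : c ≠ 1 := by
      intro h
      rw [h, map_one] at hc
      have : (b : H) = 1 := act_injective (hc.symm.trans (map_one _).symm)
      rw [this, orderOf_one] at hb
      norm_num at hb
    have hc0 : c ≠ 0 := fun h => by rw [h] at hc5; norm_num at hc5
    have hdet : ((LinearEquiv.det ((b : H) : V ≃ₗ[ZMod 11] V) : (ZMod 11)ˣ) : ZMod 11) = c ^ 2 := by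
      rw [LinearEquiv.coe_det, show (((b : H) : V ≃ₗ[ZMod 11] V) : V →ₗ[ZMod 11] V) =
        c • LinearMap.id from hc.symm.trans (Algebra.algebraMap_eq_smul_one c),
        LinearMap.det_smul, LinearMap.det_id, mul_one, hfr]
    intro h
    refine hunit (Units.mk0 c hc0) (Units.ext hc5) (fun h' => hc1 (congrArg Units.val h')) ?_
    rw [show (Units.mk0 c hc0) ^ 2 = LinearEquiv.det ((b : H) : V ≃ₗ[ZMod 11] V) from
      Units.ext hdet.symm]
    exact h
  have hrange : δ.range = (powMonoidHom 2 : (ZMod 11)ˣ →* (ZMod 11)ˣ).range := by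
    have hle : δ.range ≤ (powMonoidHom 2 : (ZMod 11)ˣ →* (ZMod 11)ˣ).range := by
      rintro _ ⟨h, rfl⟩
      exact ⟨_, rfl⟩
    have h5 : Nat.card (powMonoidHom 2 : (ZMod 11)ˣ →* (ZMod 11)ˣ).range = 5 := by
      rw [IsCyclic.card_powMonoidHom_range, Nat.card_eq_fintype_card, ZMod.card_units]
      rfl
    refine Subgroup.eq_of_le_of_card_ge hle ?_
    rcases (Nat.dvd_prime (Fact.out : Nat.Prime 5)).mp (h5 ▸ Subgroup.card_dvd_of_le hle) with h | h
    · exact absurd (Subgroup.mem_bot.mp (Subgroup.card_eq_one.mp h ▸ ⟨b, rfl⟩)) hbδ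
    · omega
  have hidx : δ.ker.index = 5 := by
    rw [index_ker, hrange, IsCyclic.card_powMonoidHom_range, Nat.card_eq_fintype_card,
      ZMod.card_units]
    rfl
  have hU : Nat.card δ.ker = 24 := by
    have := δ.ker.card_mul_index
    rw [hidx, hH120] at this
    omega
  have hNU : N ≤ δ.ker := by
    intro n hn
    rw [MonoidHom.mem_ker]
    have h4 : ∀ x : QuaternionGroup 2, x ^ 4 = 1 := by decide
    have h1 : (δ n) ^ 4 = 1 := by
      rw [← map_pow, ← map_one δ]
      congr 1
      have := congrArg e.symm (h4 (e ⟨n, hn⟩))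
      rw [map_pow, map_one, e.symm_apply_apply] at this
      exact congrArg Subtype.val this
    exact units_eleven_b _ h1
  have : (N.subgroupOf δ.ker).Normal := inferInstance
  obtain ⟨f⟩ := sl23_of_quaternion hU (N.subgroupOf δ.ker)
    ⟨(subgroupOfEquivOfLe hNU).trans e⟩ (fun w hw hw3 => Subtype.ext (hcN w
      (mem_centralizer_iff.mpr fun n hn =>
        congrArg Subtype.val (mem_centralizer_iff.mp hw ⟨n, hNU hn⟩ hn))
      (congrArg Subtype.val hw3)))
  set B := zpowers (b : H)
  have hB : Nat.card B = 5 := by rw [Nat.card_zpowers, hb]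
  have hcen : ∀ x : H, x * b = b * x := fun x =>
    (mem_centralizer_iff.mp (show x ∈ centralizer (A : Set H) from hC ▸ mem_top x) b b.2).symm
  have hcomm : ∀ u : δ.ker, ∀ c : B, (u : H) * c = c * u := by
    rintro u ⟨c, k, rfl⟩
    exact (Commute.zpow_right (hcen u) k).eq
  let F : δ.ker × B →* H := MonoidHom.noncommCoprod δ.ker.subtype B.subtype hcomm
  have hinj : Function.Injective F := by
    rw [injective_iff_map_eq_one]
    rintro ⟨u, c⟩ h
    change (u : H) * c = 1 at h
    have hc : (c : H) = 1 := by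
      have h1 : δ c = 1 := by
        rw [eq_inv_of_mul_eq_one_right h, map_inv, MonoidHom.mem_ker.mp u.2, inv_one]
      have h2 : orderOf (c : H) ∣ 5 := hB ▸ Subgroup.orderOf_dvd_natCard B c.2
      rcases (Nat.dvd_prime (Fact.out : Nat.Prime 5)).mp h2 with h3 | h3
      · exact orderOf_eq_one_iff.mp h3
      exfalso
      have hz : zpowers (c : H) = B :=
        Subgroup.eq_of_le_of_card_ge (zpowers_le.mpr c.2)
          (le_of_eq (by rw [hB, Nat.card_zpowers, h3]))
      have hb' : (b : H) ∈ zpowers (c : H) := by rw [hz]; exact mem_zpowers _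
      obtain ⟨k, hk⟩ := mem_zpowers_iff.mp hb'
      exact hbδ (by rw [← hk, map_zpow, h1, one_zpow])
    rw [hc, mul_one] at h
    exact Prod.ext (Subtype.ext h) (Subtype.ext hc)
  have hbij : Function.Bijective F := hinj.bijective_of_nat_card_le (by
    rw [Nat.card_prod, hU, hB, hH120])
  let eB : Multiplicative (ZMod 5) ≃* B :=
    mulEquivOfCyclicCardEq (by rw [Nat.card_congr Multiplicative.toAdd, Nat.card_zmod, hB])
  exact ⟨(MulEquiv.ofBijective F hbij).symm.trans (f.prodCongr eB.symm)⟩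

end CfsgLib.RegLinear
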