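import Cfsg.Agent.Lib.RegLinear.Cases

/-! Consequences for regular linear groups without irreducible cyclic normal subgroups. -/

namespace CfsgLib.RegLinear

open Subgroup

variable {p : ℕ} [Fact p.Prime] {V : Type*} [AddCommGroup V] [Module (ZMod p) V] [Finite V]
  {H : Subgroup (V ≃ₗ[ZMod p] V)} {A : Subgroup H}

/-- No cyclic normal subgroup is irreducible. -/
def NoIrrCyclic (H : Subgroup (V ≃ₗ[ZMod p] V)) : Prop :=
  ∀ A : Subgroup H, A.Normal → IsCyclic A → ∃ W : Submodule (ZMod p) V,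
    W ≠ ⊥ ∧ W ≠ ⊤ ∧ ∀ a ∈ A, ∀ v ∈ W, ((a : H) : V ≃ₗ[ZMod p] V) v ∈ W

theorem NoIrrCyclic.nontrivial (hI : NoIrrCyclic H) : Nontrivial V := by
  obtain ⟨W, hW, -, -⟩ := hI ⊥ inferInstance inferInstance
  obtain ⟨v, -, hv⟩ := W.exists_mem_ne_zero_of_ne_bot hW
  exact ⟨⟨v, 0, hv⟩⟩

theorem exists_invariant (hreg : Reg H) (hI : NoIrrCyclic H) (hAn : A.Normal)
    (hAc : IsMulCommutative A) : ∃ W : Submodule (ZMod p) V, W ≠ ⊥ ∧ W ≠ ⊤ ∧
      (∀ a ∈ A, ∀ v ∈ W, ((a : H) : V ≃ₗ[ZMod p] V) v ∈ W) ∧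
      (∀ W' : Submodule (ZMod p) V, W' ≤ W →
        (∀ a ∈ A, ∀ v ∈ W', ((a : H) : V ≃ₗ[ZMod p] V) v ∈ W') → W' = ⊥ ∨ W' = W) ∧
      Module.finrank (ZMod p) W = deg A := by
  have := hI.nontrivial
  obtain ⟨W₀, h0, h1, h2⟩ := hI A hAn (cyclic_and_card hreg hAn hAc).1
  obtain ⟨v, hv, hv0⟩ := W₀.exists_mem_ne_zero_of_ne_bot h0
  obtain ⟨W, hvW, hdim, hinv, hle, hmin⟩ := exists_minimal hreg hAn hAc hv0
  refine ⟨W, fun h => hv0 (by rwa [h, Submodule.mem_bot] at hvW), fun h => h1 ?_, hinv, hmin, hdim⟩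
  exact top_le_iff.mp (h ▸ hle W₀ h2 hv)

theorem centralizer_not_comm (hreg : Reg H) (hI : NoIrrCyclic H) (hAn : A.Normal)
    (hAc : IsMulCommutative A) (hmax : IsMaxAbelian A) :
    A < centralizer (A : Set H) ∧ ¬ IsMulCommutative (centralizer (A : Set H)) := by
  have := hI.nontrivial
  have hne : centralizer (A : Set H) ≠ A := by
    intro he
    obtain ⟨W, -, hW1, -, -, hdim⟩ := exists_invariant hreg hI hAn hAc
    have hlt : deg A < Module.finrank (ZMod p) V := hdim ▸ Submodule.finrank_lt hW1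
    obtain ⟨m, f, hm, hf, -, hcard, hV, -⟩ := card_factor hreg hAn hAc
    rw [he] at hcard
    obtain ⟨-, hd, ha, -⟩ := cyclic_and_card hreg hAn hAc
    have hp := (Fact.out : p.Prime)
    have hq : deg A < p ^ deg A := Nat.lt_pow_self hp.one_lt
    have hm2 : 2 ≤ m := by
      by_contra hcon
      obtain rfl : m = 1 := by omega
      rw [pow_one, Module.natCard_eq_pow_finrank (K := ZMod p), Nat.card_zmod] at hV
      have := Nat.pow_right_injective hp.two_le hV
      omega
    have h1 : Nat.card A * f ≤ (p ^ deg A - 1) * deg A :=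
      Nat.mul_le_mul (Nat.le_of_dvd (by omega) ha) (Nat.le_of_dvd hd hf)
    have h2 : p ^ deg A * p ^ deg A ≤ (p ^ deg A) ^ m := by
      rw [← pow_two]; exact Nat.pow_le_pow_right (by omega) hm2
    have h3 : (p ^ deg A - 1) * deg A + 1 < p ^ deg A * p ^ deg A := by
      obtain ⟨r, hr⟩ := Nat.exists_eq_add_of_le (show 1 ≤ p ^ deg A by omega)
      rw [hr, Nat.add_sub_cancel_left]
      nlinarith
    omega
  refine ⟨lt_of_le_of_ne (le_centralizer_self hAc) (Ne.symm hne), fun hc => hne ?_⟩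
  exact hmax _ inferInstance hc (le_centralizer_self hAc)

theorem exists_max_abelian (H : Subgroup (V ≃ₗ[ZMod p] V)) :
    ∃ A : Subgroup H, A.Normal ∧ IsMulCommutative A ∧ IsMaxAbelian A := by
  obtain ⟨A, ⟨hAn, hAc⟩, hmax⟩ := Set.exists_max_image
    {A : Subgroup H | A.Normal ∧ IsMulCommutative A} (fun A => Nat.card A) (Set.toFinite _)
    ⟨⊥, inferInstance, inferInstance⟩
  exact ⟨A, hAn, hAc, fun B hB1 hB2 hle =>
    (Subgroup.eq_of_le_of_card_ge hle (hmax B ⟨hB1, hB2⟩)).symm⟩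

/-- A nonsolvable group has a nonabelian centralizer of `A`. -/
theorem not_comm_of_not_solvable (hreg : Reg H) [Nontrivial V] (hAn : A.Normal)
    (hAc : IsMulCommutative A) (hs : ¬ Group.IsSolvable H) :
    ¬ IsMulCommutative (centralizer (A : Set H)) := by
  intro hc
  apply hs
  have := (cyclic_and_card hreg hAn hAc).1
  have : Group.IsSolvable (MulAut A) := by
    exact Group.isSolvable_of_isSolvable_injective (f := (IsCyclic.mulAutMulEquiv A).toMonoidHom)
      (IsCyclic.mulAutMulEquiv A).injective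
  have : Group.IsSolvable (centralizer (A : Set H)) :=
    Group.isSolvable_of_comm fun a b => hc.is_comm.comm a b
  refine Group.isSolvable_of_ker_le_range (centralizer (A : Set H)).subtype
    (MulAut.conjNormal : H →* MulAut A) fun h hh => ?_
  rw [range_subtype]
  refine mem_centralizer_iff.mpr fun a ha => ?_
  have := congrArg Subtype.val (congrArg (fun g : MulAut A => g ⟨a, ha⟩) (MonoidHom.mem_ker.mp hh))
  simp only [MulAut.conjNormal_apply, MulAut.one_apply] at this
  rw [mul_inv_eq_iff_eq_mul] at this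
  exact this.symm

/-- The insoluble case. -/
theorem insoluble_case (hreg : Reg H) (hs : ¬ Group.IsSolvable H) :
    ∃ (A N : Subgroup H) (_ : A.Normal) (_ : N.Normal), IsCyclic A ∧
      Nonempty (N ≃* Matrix.SpecialLinearGroup (Fin 2) (ZMod 5)) ∧
      centralizer (A : Set H) = ⊤ ∧ Nat.card V = p ^ 2 ∧
      ((p = 11 ∧ Nat.card A = 2) ∨ (p = 29 ∧ Nat.card A = 14) ∨ (p = 59 ∧ Nat.card A = 58)) := by
  have : Nontrivial V := by
    by_contra hV
    rw [not_nontrivial_iff_subsingleton] at hV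
    exact hs (Group.isSolvable_of_comm fun a b => Subtype.ext (LinearEquiv.ext fun v => Subsingleton.elim _ _))
  obtain ⟨A, hAn, hAc, hmax⟩ := exists_max_abelian H
  obtain ⟨N, hNn, hNle, hNna, hNmin⟩ :=
    exists_minimal_normal (D := centralizer (A : Set H)) inferInstance
      (not_comm_of_not_solvable hreg hAn hAc hs)
  rcases minimal_cases hreg hAn hAc hmax hNn hNle hNna hNmin with hN | hN
  · exact absurd (q8_case hreg hAn hAc hmax hNn hNle hN).2.2.2 hs
  · obtain ⟨hC, hV, hp, hcyc⟩ := sl25_case hreg hAn hAc hmax hNn hNle hN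
    exact ⟨A, N, hAn, hNn, hcyc, hN, hC, hV, hp⟩

end CfsgLib.RegLinear

namespace CfsgLib.RegLinear

open Subgroup

variable {p : ℕ} [Fact p.Prime] {V : Type*} [AddCommGroup V] [Module (ZMod p) V] [Finite V]
  {H : Subgroup (V ≃ₗ[ZMod p] V)}

theorem not_isSolvable_sl25 :
    ¬ Group.IsSolvable (Matrix.SpecialLinearGroup (Fin 2) (ZMod 5)) := by
  intro hs
  have : Nontrivial (Matrix.SpecialLinearGroup (Fin 2) (ZMod 5)) :=
    ⟨⟨-1, 1, CfsgLib.Zassenhaus.Icosa.neg_one_ne_one_sl⟩⟩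
  have hlt := Group.IsSolvable.commutator_lt_top_of_nontrivial
    (G := Matrix.SpecialLinearGroup (Fin 2) (ZMod 5))
  refine hlt.ne (eq_top_iff.mpr fun g _ => ?_)
  rw [CfsgLib.Zassenhaus.Icosa.eq_prod_word g]
  refine list_prod_mem fun x hx => ?_
  obtain ⟨s, -, rfl⟩ := List.mem_map.mp hx
  have key : ∀ s : Fin 3, ∃ i j : Fin 120,
      CfsgLib.Zassenhaus.Icosa.qmul (CfsgLib.Zassenhaus.Icosa.qmul (CfsgLib.Zassenhaus.Icosa.qmul
        (CfsgLib.Zassenhaus.Icosa.mat i) (CfsgLib.Zassenhaus.Icosa.mat j))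
        (CfsgLib.Zassenhaus.Icosa.qinv (CfsgLib.Zassenhaus.Icosa.mat i)))
        (CfsgLib.Zassenhaus.Icosa.qinv (CfsgLib.Zassenhaus.Icosa.mat j)) =
      CfsgLib.Zassenhaus.Icosa.gen s := by decide +kernel
  obtain ⟨i, j, hij⟩ := key s
  obtain ⟨u, hu⟩ := CfsgLib.Zassenhaus.Icosa.exists_quad_eq i
  obtain ⟨v, hv⟩ := CfsgLib.Zassenhaus.Icosa.exists_quad_eq j
  have : CfsgLib.Zassenhaus.Icosa.gsl s = u * v * u⁻¹ * v⁻¹ := by
    apply CfsgLib.Zassenhaus.Icosa.quad_injective
    simp only [CfsgLib.Zassenhaus.Icosa.quad_mul, CfsgLib.Zassenhaus.Icosa.quad_inv,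
      CfsgLib.Zassenhaus.Icosa.quad_gsl, hu, hv, hij]
  rw [this]
  exact commutator_mem_commutator (mem_top u) (mem_top v)

theorem sq_add_one_ne_zero : ∀ c : ZMod 3, c * c + 1 ≠ 0 := by decide

theorem not_noIrrCyclic_nine (hreg : Reg H) [Nontrivial V] (hp : p = 3) (hV : Nat.card V = 9)
    {N : Subgroup H} (hN : Nonempty (N ≃* QuaternionGroup 2)) : ¬ NoIrrCyclic H := by
  subst hp
  intro hI
  obtain ⟨e⟩ := hN
  have hcard : Nat.card H = 8 := by have := hreg.card_eq; omega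
  set i : N := e.symm (QuaternionGroup.a 1) with hi
  have hio : orderOf (i : H) = 4 := by
    rw [Subgroup.orderOf_coe, hi, MulEquiv.orderOf_eq, QuaternionGroup.orderOf_a_one]
  have hidx : (zpowers (i : H)).index = 2 := by
    have h := (zpowers (i : H)).card_mul_index
    rw [Nat.card_zpowers, hio, hcard] at h
    omega
  have hn := normal_of_index_eq_two hidx
  obtain ⟨W, hW0, hW1, hW⟩ := hI (zpowers (i : H)) hn inferInstance
  have hdim : Module.finrank (ZMod 3) V = 2 := by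
    rw [Module.natCard_eq_pow_finrank (K := ZMod 3), Nat.card_zmod] at hV
    exact Nat.pow_right_injective (le_refl 2 |>.trans (by norm_num)) (hV.trans (by norm_num))
  have hlt := Submodule.finrank_lt hW1
  have hpos : 0 < Module.finrank (ZMod 3) W :=
    Nat.pos_of_ne_zero fun h => hW0 (Submodule.finrank_eq_zero.mp h)
  obtain ⟨v, hv, hspan⟩ := finrank_eq_one_iff'.mp
    (show Module.finrank (ZMod 3) W = 1 by omega)
  obtain ⟨c, hc⟩ := hspan ⟨_, hW (i : H) (mem_zpowers _) v v.2⟩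
  have hc' : act H (i : H) (v : V) = c • (v : V) := (congrArg Subtype.val hc).symm
  have h2 : ((i : H) * i) ≠ 1 := fun h => by
    have := orderOf_dvd_of_pow_eq_one (show (i : H) ^ 2 = 1 by rw [pow_two, h])
    rw [hio] at this
    norm_num at this
  have h4 : ((i : H) * i) * ((i : H) * i) = 1 := by
    rw [← pow_two, ← pow_two, ← pow_mul, show 2 * 2 = orderOf (i : H) by rw [hio], pow_orderOf_eq_one]
  have hneg := LinearMap.congr_fun (hreg.involution h2 h4) (v : V)
  rw [map_mul, Module.End.mul_apply, hc', map_smul, hc', smul_smul, LinearMap.neg_apply,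
    Module.End.one_apply] at hneg
  have h0 : (c * c + 1) • (v : V) = 0 := by rw [add_smul, hneg, one_smul, neg_add_cancel]
  have : c * c + 1 = 0 :=
    (smul_eq_zero.mp h0).resolve_right fun h => hv (Subtype.ext h)
  exact sq_add_one_ne_zero c this

end CfsgLib.RegLinear

namespace CfsgLib.RegLinear

open Subgroup
open CfsgLib.Zassenhaus.Icosa (SL25)

variable {p : ℕ} [Fact p.Prime] {V : Type*} [AddCommGroup V] [Module (ZMod p) V] [Finite V]
  {H : Subgroup (V ≃ₗ[ZMod p] V)}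

theorem product_structure {G : Type*} [Group G] [Finite G] {A N : Subgroup G} (hC : centralizer (A : Set G) = ⊤)
    (θ : N ≃* SL25) (hAc : IsCyclic A) {m : ℕ} (hm : Odd m) (hA : Nat.card A = 2 * m)
    (hG : Nat.card G = 120 * m) : Nonempty (G ≃* SL25 × Multiplicative (ZMod m)) := by
  obtain ⟨g, hg⟩ := hAc.exists_generator
  have hgo : orderOf g = 2 * m := by
    rw [orderOf_eq_card_of_forall_mem_zpowers hg, hA]
  set B := zpowers ((g : G) ^ 2) with hB
  have hBA : B ≤ A := zpowers_le.mpr (pow_mem g.2 2)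
  have hm0 : 0 < m := hm.pos
  have hBcard : Nat.card B = m := by
    rw [hB, Nat.card_zpowers, orderOf_pow, Subgroup.orderOf_coe, hgo, Nat.gcd_mul_right_left,
      Nat.mul_div_cancel_left m two_pos]
  have hcomm : ∀ n : N, ∀ b : B, (n : G) * b = b * n := fun n b =>
    (mem_centralizer_iff.mp (show (n : G) ∈ centralizer (A : Set G) by rw [hC]; exact mem_top _)
      b (hBA b.2)).symm
  let f : N × B →* G := MonoidHom.noncommCoprod N.subtype B.subtype hcomm
  have hdis : ∀ x : G, x ∈ N → x ∈ B → x = 1 := by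
    intro x hx hxB
    have hc : ∀ s, θ ⟨x, hx⟩ * CfsgLib.Zassenhaus.Icosa.gsl s =
        CfsgLib.Zassenhaus.Icosa.gsl s * θ ⟨x, hx⟩ := by
      intro s
      apply θ.symm.injective
      rw [map_mul, map_mul, MulEquiv.symm_apply_apply]
      exact Subtype.ext (hcomm (θ.symm _) ⟨x, hxB⟩).symm
    have hx2 : x ^ 2 = 1 := by
      have h := congrArg Subtype.val (θ.injective (a₁ := (⟨x, hx⟩ : N) ^ 2) (a₂ := 1) (by
        rw [map_pow, map_one, pow_two]
        rcases CfsgLib.Zassenhaus.Icosa.eq_of_central hc with h | h <;> rw [h]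
        · rw [one_mul]
        · exact CfsgLib.Zassenhaus.Icosa.neg_one_sq))
      exact h
    have h1 : orderOf x ∣ m := hBcard ▸ Subgroup.orderOf_dvd_natCard B hxB
    have h2 : orderOf x ∣ 2 := orderOf_dvd_of_pow_eq_one hx2
    exact orderOf_eq_one_iff.mp
      (Nat.eq_one_of_dvd_coprimes (Nat.coprime_two_right.mpr hm) h1 h2)
  have hinj : Function.Injective f := by
    rw [injective_iff_map_eq_one]
    rintro ⟨n, b⟩ h
    change (n : G) * b = 1 at h
    have hn : (n : G) = 1 := hdis _ n.2 (eq_inv_of_mul_eq_one_left h ▸ inv_mem b.2)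
    rw [hn, one_mul] at h
    exact Prod.ext (Subtype.ext hn) (Subtype.ext h)
  have hbij : Function.Bijective f := hinj.bijective_of_nat_card_le (by
    rw [Nat.card_prod, hBcard, Nat.card_congr θ.toEquiv, CfsgLib.Zassenhaus.Icosa.card_sl25, hG])
  let eB : Multiplicative (ZMod m) ≃* B := hBcard ▸ zmodCyclicMulEquiv (G := B) inferInstance
  exact ⟨(MulEquiv.ofBijective f hbij).symm.trans (θ.prodCongr eB.symm)⟩

theorem insoluble_structure (hreg : Reg H) (hsolv : ¬ Group.IsSolvable H) :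
    (Nat.card V = 121 ∧ Nonempty (H ≃* SL25)) ∨
    (Nat.card V = 841 ∧ Nonempty (H ≃* SL25 × Multiplicative (ZMod 7))) ∨
    (Nat.card V = 3481 ∧ Nonempty (H ≃* SL25 × Multiplicative (ZMod 29))) := by
  obtain ⟨A, N, hAn, hNn, hAc, ⟨θ⟩, hC, hV, hp⟩ := insoluble_case hreg hsolv
  have : Nontrivial V := Finite.one_lt_card_iff_nontrivial.mp
    (hV ▸ Nat.one_lt_pow two_ne_zero (Fact.out : p.Prime).one_lt)
  have hH := hreg.card_eq
  rcases hp with ⟨rfl, ha⟩ | ⟨rfl, ha⟩ | ⟨rfl, ha⟩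
  · refine Or.inl ⟨by rw [hV]; norm_num, ?_⟩
    obtain ⟨e⟩ := product_structure (m := 1) hC θ hAc odd_one (by omega) (by omega)
    have : Unique (Multiplicative (ZMod 1)) := ⟨⟨1⟩, fun a => Subsingleton.elim _ _⟩
    exact ⟨e.trans MulEquiv.prodUnique⟩
  · refine Or.inr (Or.inl ⟨by rw [hV]; norm_num, ?_⟩)
    exact product_structure (m := 7) hC θ hAc (by decide) (by omega) (by omega)
  · refine Or.inr (Or.inr ⟨by rw [hV]; norm_num, ?_⟩)
    exact product_structure (m := 29) hC θ hAc (by decide) (by omega) (by omega)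

end CfsgLib.RegLinear
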