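import Mathlib.FieldTheory.Finite.GaloisField
import Mathlib.FieldTheory.Galois.Basic
import Mathlib.LinearAlgebra.Determinant
import Mathlib.LinearAlgebra.FiniteDimensional.Lemmas
import Mathlib.RingTheory.IntegralDomain

/-! Linear groups over a prime field regular on the nonzero vectors: the field generated by a
normal abelian subgroup. -/

namespace CfsgLib.RegLinear

open Subgroup

variable {p : ℕ} [Fact p.Prime] {V : Type*} [AddCommGroup V] [Module (ZMod p) V] [Finite V]
  {H : Subgroup (V ≃ₗ[ZMod p] V)}

/-- Regular on the nonzero vectors. -/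
def Reg (H : Subgroup (V ≃ₗ[ZMod p] V)) : Prop :=
  ∀ v w : V, v ≠ 0 → w ≠ 0 → ∃! h : H, (h : V ≃ₗ[ZMod p] V) v = w

/-- The action as a monoid hom. -/
def act (H : Subgroup (V ≃ₗ[ZMod p] V)) : H →* Module.End (ZMod p) V where
  toFun h := ((h : V ≃ₗ[ZMod p] V) : V →ₗ[ZMod p] V)
  map_one' := rfl
  map_mul' _ _ := rfl

@[simp] theorem act_apply (h : H) (v : V) : act H h v = (h : V ≃ₗ[ZMod p] V) v := rfl

theorem act_injective : Function.Injective (act H) := fun _ _ he =>
  Subtype.ext (LinearEquiv.toLinearMap_injective he)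

theorem act_mul_inv (h : H) : act H h * act H h⁻¹ = 1 := by
  rw [← map_mul, mul_inv_cancel, map_one]

theorem act_inv_mul (h : H) : act H h⁻¹ * act H h = 1 := by
  rw [← map_mul, inv_mul_cancel, map_one]

theorem Reg.eq_one (hreg : Reg H) {h : H} {v : V} (hv : v ≠ 0) (he : act H h v = v) : h = 1 :=
  (hreg v v hv hv).unique he rfl

theorem Reg.card_eq (hreg : Reg H) [Nontrivial V] : Nat.card H + 1 = Nat.card V := by
  obtain ⟨v, hv⟩ := exists_ne (0 : V)
  have hne : ∀ h : H, (h : V ≃ₗ[ZMod p] V) v ≠ 0 := fun h he =>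
    hv ((h : V ≃ₗ[ZMod p] V).map_eq_zero_iff.mp he)
  have : Finite H := Finite.of_injective (fun h : H => (h : V ≃ₗ[ZMod p] V) v) fun h k he =>
    (hreg v _ hv (hne k)).unique he rfl
  rw [← Finite.card_option]
  refine Nat.card_congr (Equiv.ofBijective
    (fun o : Option H => o.elim 0 fun h => (h : V ≃ₗ[ZMod p] V) v) ⟨?_, ?_⟩)
  · rintro (_ | h) (_ | k) he
    · rfl
    · exact absurd he.symm (hne k)
    · exact absurd he (hne h)
    · exact congrArg some ((hreg v _ hv (hne k)).unique he rfl)
  · intro w
    by_cases hw : w = 0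
    · exact ⟨none, hw.symm⟩
    · obtain ⟨h, hh, -⟩ := hreg v w hv hw
      exact ⟨some h, hh⟩

instance : Finite (Module.End (ZMod p) V) :=
  Finite.of_injective (fun f : Module.End (ZMod p) V => (f : V → V)) DFunLike.coe_injective

instance : Finite H :=
  Finite.of_injective (act H) act_injective

/-- The algebra generated by a subgroup. -/
def alg (A : Subgroup H) : Subalgebra (ZMod p) (Module.End (ZMod p) V) :=
  Algebra.adjoin (ZMod p) (act H '' (A : Set H))

/-- The degree of that algebra. -/
noncomputable def deg (A : Subgroup H) : ℕ := Module.finrank (ZMod p) (alg A)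

variable {A : Subgroup H}

theorem act_mem {a : H} (ha : a ∈ A) : act H a ∈ alg A := Algebra.subset_adjoin ⟨a, ha, rfl⟩

theorem commute_alg {h : H} (hh : h ∈ centralizer (A : Set H)) {r : Module.End (ZMod p) V}
    (hr : r ∈ alg A) : Commute (act H h) r := by
  induction hr using Algebra.adjoin_induction with
  | mem x hx =>
    obtain ⟨a, ha, rfl⟩ := hx
    show _ = _
    rw [← map_mul, ← map_mul, mem_centralizer_iff.mp hh a ha]
  | algebraMap c => exact (Algebra.commutes c _).symm
  | add x y _ _ hx hy => exact hx.add_right hy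
  | mul x y _ _ hx hy => exact hx.mul_right hy

theorem alg_comm (hAc : IsMulCommutative A) {r s : Module.End (ZMod p) V} (hr : r ∈ alg A)
    (hs : s ∈ alg A) : r * s = s * r := by
  induction hr using Algebra.adjoin_induction with
  | mem x hx =>
    obtain ⟨a, ha, rfl⟩ := hx
    exact commute_alg (mem_centralizer_iff.mpr fun b hb =>
      congrArg Subtype.val (hAc.is_comm.comm (⟨b, hb⟩ : A) ⟨a, ha⟩)) hs
  | algebraMap c => exact Algebra.commutes c _
  | add x y _ _ hx hy => exact (Commute.add_left hx hy)
  | mul x y _ _ hx hy => exact (Commute.mul_left hx hy)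

theorem alg_conj (hAn : A.Normal) (h : H) {r : Module.End (ZMod p) V} (hr : r ∈ alg A) :
    act H h * r * act H h⁻¹ ∈ alg A := by
  induction hr using Algebra.adjoin_induction with
  | mem x hx =>
    obtain ⟨a, ha, rfl⟩ := hx
    rw [← map_mul, ← map_mul]
    exact act_mem (hAn.conj_mem a ha h)
  | algebraMap c =>
    rw [← Algebra.commutes, mul_assoc, act_mul_inv, mul_one]
    exact Subalgebra.algebraMap_mem _ c
  | add x y _ _ hx hy => rw [mul_add, add_mul]; exact add_mem hx hy
  | mul x y _ _ hx hy =>
    have e : act H h * (x * y) * act H h⁻¹ =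
        (act H h * x * act H h⁻¹) * (act H h * y * act H h⁻¹) := by
      simp only [mul_assoc]
      rw [← mul_assoc (act H h⁻¹) (act H h), act_inv_mul, one_mul]
    rw [e]
    exact mul_mem hx hy

/-- Every orbit of the algebra on a nonzero vector is minimal. -/
theorem exists_apply_eq (hreg : Reg H) (hAn : A.Normal) {v : V} (hv : v ≠ 0)
    {r : Module.End (ZMod p) V} (hr : r ∈ alg A) (hrv : r v ≠ 0) : ∃ s ∈ alg A, s (r v) = v := by
  let O : V → Set V := fun w => (fun s : Module.End (ZMod p) V => s w) '' (alg A : Set _)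
  obtain ⟨w, hw, hmin⟩ := Set.exists_min_image {w : V | w ≠ 0} (fun w => (O w).ncard)
    (Set.toFinite _) ⟨v, hv⟩
  have key : ∀ r ∈ alg A, r w ≠ 0 → ∃ s ∈ alg A, s (r w) = w := by
    intro r hr hrw
    have hsub : O (r w) ⊆ O w := by
      rintro _ ⟨s, hs, rfl⟩
      exact ⟨s * r, mul_mem hs hr, rfl⟩
    have := Set.eq_of_subset_of_ncard_le hsub (hmin _ hrw) (Set.toFinite _)
    have hw' : w ∈ O w := ⟨1, one_mem _, rfl⟩
    rw [← this] at hw'
    exact hw'
  obtain ⟨h, hh, -⟩ := hreg w v hw hv
  set r' := act H h⁻¹ * r * act H h⁻¹⁻¹ with hr'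
  have e : r (act H h w) = act H h (r' w) := by
    rw [← Module.End.mul_apply, ← Module.End.mul_apply, hr', inv_inv, ← mul_assoc, ← mul_assoc,
      act_mul_inv, one_mul]
  have hv' : act H h w = v := hh
  have hne : r' w ≠ 0 := fun h0 => hrv (by rw [← hv', e, h0, map_zero])
  obtain ⟨s, hs, hs'⟩ := key r' (alg_conj hAn h⁻¹ hr) hne
  refine ⟨act H h * s * act H h⁻¹, alg_conj hAn h hs, ?_⟩
  rw [← hv', e, Module.End.mul_apply, ← Module.End.mul_apply (f := act H h⁻¹), act_inv_mul,
    Module.End.one_apply, Module.End.mul_apply, hs']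

theorem eq_zero_of_apply (hreg : Reg H) (hAn : A.Normal) (hAc : IsMulCommutative A)
    {r : Module.End (ZMod p) V} (hr : r ∈ alg A) {v : V} (hv : v ≠ 0) (h0 : r v = 0) : r = 0 := by
  refine LinearMap.ext fun w => ?_
  by_contra hw
  rw [LinearMap.zero_apply] at hw
  have hw0 : w ≠ 0 := fun h => hw (by rw [h, map_zero])
  obtain ⟨s, hs, hsw⟩ := exists_apply_eq hreg hAn hw0 hr hw
  set t := v + w with ht
  have hrt : r t = r w := by rw [ht, map_add, h0, zero_add]
  have ht0 : t ≠ 0 := fun h => hw (by rw [← hrt, h, map_zero])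
  have hq : (1 - s * r) t = v := by
    rw [LinearMap.sub_apply, Module.End.one_apply, Module.End.mul_apply, hrt, hsw, ht,
      add_sub_cancel_right]
  obtain ⟨u, hu, huv⟩ := exists_apply_eq hreg hAn ht0 (sub_mem (one_mem _) (mul_mem hs hr))
    (hq ▸ hv)
  apply hw
  rw [← hrt, ← huv, hq, ← Module.End.mul_apply, alg_comm hAc hr hu, Module.End.mul_apply, h0,
    map_zero]

theorem alg_isField (hreg : Reg H) (hAn : A.Normal) (hAc : IsMulCommutative A) [Nontrivial V] :
    IsField (alg A) := by
  obtain ⟨v, hv⟩ := exists_ne (0 : V)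
  refine ⟨⟨0, 1, fun h => hv ?_⟩, fun r s => Subtype.ext (alg_comm hAc r.2 s.2), fun {r} hr => ?_⟩
  · have := congrArg (fun x : alg A => (x : Module.End (ZMod p) V) v) h
    simpa using this.symm
  · have hinj : Function.Injective fun s : alg A => r * s := by
      intro s t hst
      have h1 : (r : Module.End (ZMod p) V) (((s - t : alg A) : Module.End (ZMod p) V) v) = 0 := by
        have := congrArg (fun x : alg A => (x : Module.End (ZMod p) V) v) hst
        simpa [sub_eq_zero] using this
      refine sub_eq_zero.mp (Subtype.ext ?_)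
      by_cases h2 : ((s - t : alg A) : Module.End (ZMod p) V) v = 0
      · exact eq_zero_of_apply hreg hAn hAc (s - t).2 hv h2
      · exact absurd (Subtype.ext (eq_zero_of_apply hreg hAn hAc r.2 h2 h1)) hr
    exact Finite.injective_iff_surjective.mp hinj 1

/-- The numerical data of a normal abelian subgroup. -/
theorem cyclic_and_card (hreg : Reg H) (hAn : A.Normal) (hAc : IsMulCommutative A)
    [Nontrivial V] : IsCyclic A ∧ 0 < deg A ∧ Nat.card A ∣ p ^ deg A - 1 ∧
      (centralizer (A : Set H)).index ∣ deg A := by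
  letI : Field (alg A) := (alg_isField hreg hAn hAc).toField
  let f : A →* alg A :=
    { toFun := fun a => ⟨act H a, act_mem a.2⟩
      map_one' := Subtype.ext (map_one _)
      map_mul' := fun a b => Subtype.ext (map_mul (act H) (a : H) b) }
  have hf : Function.Injective f := fun a b he =>
    Subtype.ext (act_injective (congrArg Subtype.val he))
  refine ⟨isCyclic_of_subgroup_isDomain f hf, Module.finrank_pos, ?_, ?_⟩
  · have h1 : Nat.card A ∣ Nat.card (alg A)ˣ := Subgroup.card_dvd_of_injective f.toHomUnits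
      fun a b he => hf (congrArg Units.val he)
    rwa [Nat.card_units, Module.natCard_eq_pow_finrank (K := ZMod p) (V := alg A),
      Nat.card_zmod] at h1
  · let ψ : H →* (alg A ≃ₐ[ZMod p] alg A) :=
      { toFun := fun h =>
          { toFun := fun r => ⟨act H h * r.1 * act H h⁻¹, alg_conj hAn h r.2⟩
            invFun := fun r => ⟨act H h⁻¹ * r.1 * act H h, by
              have := alg_conj hAn h⁻¹ r.2
              rwa [inv_inv] at this⟩
            left_inv := fun r => Subtype.ext (by
              show act H h⁻¹ * (act H h * r.1 * act H h⁻¹) * act H h = r.1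
              rw [← mul_assoc, ← mul_assoc, act_inv_mul, one_mul, mul_assoc, act_inv_mul, mul_one])
            right_inv := fun r => Subtype.ext (by
              show act H h * (act H h⁻¹ * r.1 * act H h) * act H h⁻¹ = r.1
              rw [← mul_assoc, ← mul_assoc, act_mul_inv, one_mul, mul_assoc, act_mul_inv, mul_one])
            map_mul' := fun r s => Subtype.ext (by
              show act H h * (r.1 * s.1) * act H h⁻¹ = _ * _
              simp only [mul_assoc]
              rw [← mul_assoc (act H h⁻¹) (act H h), act_inv_mul, one_mul])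
            map_add' := fun r s => Subtype.ext (by
              show act H h * (r.1 + s.1) * act H h⁻¹ = _ + _
              rw [mul_add, add_mul])
            commutes' := fun c => Subtype.ext (by
              show act H h * algebraMap _ _ c * act H h⁻¹ = algebraMap _ _ c
              rw [← Algebra.commutes, mul_assoc, act_mul_inv, mul_one]) }
        map_one' := AlgEquiv.ext fun r => Subtype.ext (by
          show act H 1 * r.1 * act H 1⁻¹ = r.1
          simp)
        map_mul' := fun g h => AlgEquiv.ext fun r => Subtype.ext (by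
          show act H (g * h) * r.1 * act H (g * h)⁻¹ = act H g * (act H h * r.1 * act H h⁻¹) * act H g⁻¹
          rw [mul_inv_rev, map_mul, map_mul]
          simp only [mul_assoc]) }
    have hker : ψ.ker = centralizer (A : Set H) := by
      ext h
      rw [MonoidHom.mem_ker]
      constructor
      · intro hh
        refine mem_centralizer_iff.mpr fun a ha => act_injective ?_
        have h1 : act H h * act H a * act H h⁻¹ = act H a :=
          congrArg (fun e : alg A ≃ₐ[ZMod p] alg A => (e ⟨act H a, act_mem ha⟩).1) hh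
        rw [map_mul, map_mul]
        conv_lhs => rw [← h1, mul_assoc, act_inv_mul, mul_one]
      · intro hh
        refine AlgEquiv.ext fun r => Subtype.ext ?_
        show act H h * r.1 * act H h⁻¹ = r.1
        rw [(commute_alg hh r.2).eq, mul_assoc, act_mul_inv, mul_one]
    rw [← hker, index_ker]
    exact (Subgroup.card_subgroup_dvd_card ψ.range).trans
      (IsGalois.card_aut_eq_finrank (ZMod p) (alg A)).dvd

/-- The dimension over the field. -/
theorem exists_dim (hreg : Reg H) (hAn : A.Normal) (hAc : IsMulCommutative A) [Nontrivial V] :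
    ∃ m : ℕ, 0 < m ∧ Nat.card V = (p ^ deg A) ^ m ∧
      (¬ IsMulCommutative (centralizer (A : Set H)) → 2 ≤ m) ∧
      (∀ i ∈ centralizer (A : Set H), ∀ j ∈ centralizer (A : Set H), p ≠ 2 →
        act H i * act H j = -(act H j * act H i) → Even m) := by
  letI : Field (alg A) := (alg_isField hreg hAn hAc).toField
  have : Module.Finite (alg A) V := Module.Finite.of_finite
  refine ⟨Module.finrank (alg A) V, Module.finrank_pos, ?_, ?_, ?_⟩
  · rw [Module.natCard_eq_pow_finrank (K := alg A) (V := V),
      Module.natCard_eq_pow_finrank (K := ZMod p) (V := alg A), Nat.card_zmod]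
    rfl
  · intro hC
    by_contra hm
    have h1 : Module.finrank (alg A) V = 1 := by
      have := Module.finrank_pos (R := alg A) (M := V)
      omega
    obtain ⟨v, hv, hspan⟩ := finrank_eq_one_iff'.mp h1
    have mem : ∀ c ∈ centralizer (A : Set H), act H c ∈ alg A := by
      intro c hc
      obtain ⟨r, hr⟩ := hspan (act H c v)
      suffices act H c = r.1 by rw [this]; exact r.2
      refine LinearMap.ext fun w => ?_
      obtain ⟨s, rfl⟩ := hspan w
      show act H c ((s : Module.End (ZMod p) V) v) = r.1 ((s : Module.End (ZMod p) V) v)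
      rw [← Module.End.mul_apply, (commute_alg hc s.2).eq, Module.End.mul_apply, ← hr,
        ← Module.End.mul_apply r.1 s.1, alg_comm hAc r.2 s.2]
      rfl
    exact hC ⟨⟨fun a b => Subtype.ext (act_injective (by
      rw [Subgroup.coe_mul, Subgroup.coe_mul, map_mul, map_mul]
      exact alg_comm hAc (mem a a.2) (mem b b.2)))⟩⟩
  · intro i hi j hj hp hij
    let lin : centralizer (A : Set H) → (V →ₗ[alg A] V) := fun c =>
      { toFun := act H c
        map_add' := map_add _
        map_smul' := fun r v => by
          show act H c ((r : Module.End (ZMod p) V) v) = (r : Module.End (ZMod p) V) (act H c v)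
          rw [← Module.End.mul_apply, (commute_alg c.2 r.2).eq, Module.End.mul_apply] }
    have he : lin ⟨i, hi⟩ * lin ⟨j, hj⟩ = (-1 : alg A) • (lin ⟨j, hj⟩ * lin ⟨i, hi⟩) :=
      LinearMap.ext fun v => by
        rw [LinearMap.smul_apply, neg_one_smul]
        exact LinearMap.congr_fun hij v
    have hd : ∀ c : centralizer (A : Set H), LinearMap.det (lin c) ≠ 0 := by
      intro c h0
      have hprod : lin c * lin c⁻¹ = 1 := LinearMap.ext fun v => by
        show act H (c : H) (act H ((c : H)⁻¹) v) = v
        rw [← Module.End.mul_apply, act_mul_inv, Module.End.one_apply]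
      have := congrArg LinearMap.det hprod
      rw [map_mul, h0, zero_mul, map_one] at this
      exact zero_ne_one this
    have hdet := congrArg LinearMap.det he
    rw [LinearMap.det_smul, map_mul, map_mul, mul_comm (LinearMap.det (lin ⟨j, hj⟩))] at hdet
    have h2 : ((-1 : alg A) ^ Module.finrank (alg A) V) = 1 :=
      (mul_eq_right₀ (mul_ne_zero (hd ⟨i, hi⟩) (hd ⟨j, hj⟩))).mp hdet.symm
    have : CharP (alg A) p := charP_of_injective_algebraMap (algebraMap (ZMod p) (alg A)).injective p
    have hne : (-1 : alg A) ≠ 1 := Ring.neg_one_ne_one_of_char_ne_two (by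
      rwa [ringChar.eq (alg A) p])
    exact (neg_one_pow_eq_one_iff_even hne).mp h2

/-- An orbit of the algebra is a minimal invariant subspace. -/
theorem exists_minimal (hreg : Reg H) (hAn : A.Normal) (hAc : IsMulCommutative A) {v : V}
    (hv : v ≠ 0) : ∃ W : Submodule (ZMod p) V, v ∈ W ∧ Module.finrank (ZMod p) W = deg A ∧
      (∀ a ∈ A, ∀ w ∈ W, act H a w ∈ W) ∧
      (∀ U : Submodule (ZMod p) V, (∀ a ∈ A, ∀ w ∈ U, act H a w ∈ U) → v ∈ U → W ≤ U) ∧
      ∀ U : Submodule (ZMod p) V, U ≤ W → (∀ a ∈ A, ∀ w ∈ U, act H a w ∈ U) → U = ⊥ ∨ U = W := by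
  let ev : alg A →ₗ[ZMod p] V :=
    { toFun := fun r => (r : Module.End (ZMod p) V) v
      map_add' := fun _ _ => rfl
      map_smul' := fun _ _ => rfl }
  have hev : Function.Injective ev := by
    rw [← LinearMap.ker_eq_bot, LinearMap.ker_eq_bot']
    exact fun r hr => Subtype.ext (eq_zero_of_apply hreg hAn hAc r.2 hv hr)
  have inv : ∀ U : Submodule (ZMod p) V, (∀ a ∈ A, ∀ w ∈ U, act H a w ∈ U) →
      ∀ r ∈ alg A, ∀ w ∈ U, r w ∈ U := by
    intro U hU r hr
    induction hr using Algebra.adjoin_induction with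
    | mem x hx => obtain ⟨a, ha, rfl⟩ := hx; exact hU a ha
    | algebraMap c => intro w hw; rw [Module.algebraMap_end_apply]; exact U.smul_mem c hw
    | add x y _ _ hx hy => intro w hw; exact U.add_mem (hx w hw) (hy w hw)
    | mul x y _ _ hx hy => intro w hw; exact hx _ (hy w hw)
  refine ⟨LinearMap.range ev, ⟨1, rfl⟩, LinearMap.finrank_range_of_inj hev, ?_, ?_, ?_⟩
  · rintro a ha _ ⟨r, rfl⟩
    exact ⟨⟨act H a * r.1, mul_mem (act_mem ha) r.2⟩, rfl⟩
  · rintro U hU hvU _ ⟨r, rfl⟩
    exact inv U hU r.1 r.2 v hvU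
  · intro U hUW hU
    refine or_iff_not_imp_left.mpr fun hne => le_antisymm hUW ?_
    obtain ⟨w, hwU, hw0⟩ := U.exists_mem_ne_zero_of_ne_bot hne
    obtain ⟨r, rfl⟩ := hUW hwU
    obtain ⟨s, hs, hs'⟩ := exists_apply_eq hreg hAn hv r.2 hw0
    have hvU : v ∈ U := hs' ▸ inv U hU s hs _ hwU
    rintro _ ⟨t, rfl⟩
    exact inv U hU t.1 t.2 v hvU

end CfsgLib.RegLinear
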