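import Mathlib.Data.Nat.Prime.Basic
import Mathlib.Tactic.IntervalCases
import Mathlib.Tactic.NormNum.Prime
import Mathlib.Tactic.Linarith
import Mathlib.Algebra.Group.Even
import Mathlib.Data.Nat.ModEq
import Mathlib.Algebra.GroupWithZero.Divisibility
import Mathlib.Algebra.Ring.GeomSum
import Mathlib.Tactic.Ring

/-! The arithmetic of the exceptional regular linear groups. -/

namespace CfsgLib.RegLinear

theorem reduce {q d m a E f B : ℕ} (hq : 2 < q) (hd : 0 < d) (hm : Even m) (hm0 : 0 < m)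
    (ha : a ∣ q - 1) (hf : f ∣ d) (hE : E ∣ B) (hB : 0 < B) (hbound : B * d < q ^ 3)
    (h : a * (E * f) + 1 = q ^ m) : m = 2 ∧ (q + 1) ∣ B * d := by
  have hdvd : a * (E * f) ∣ (q - 1) * (B * d) := mul_dvd_mul ha (mul_dvd_mul hE hf)
  have hle : a * (E * f) ≤ (q - 1) * (B * d) :=
    Nat.le_of_dvd (Nat.mul_pos (by omega) (Nat.mul_pos hB hd)) hdvd
  obtain ⟨k, hk⟩ := hm
  have hm2 : m = 2 := by
    by_contra hne
    have h4 : q ^ 4 ≤ q ^ m := Nat.pow_le_pow_right (by omega) (by omega)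
    have h5 : (q - 1) * (B * d) + 1 ≤ q * (B * d) := by
      have : 0 < B * d := Nat.mul_pos hB hd
      rw [Nat.sub_mul, one_mul]
      have := Nat.le_mul_of_pos_left (B * d) (show 0 < q by omega)
      omega
    have h6 : q * (B * d) < q ^ 4 := by
      rw [show q ^ 4 = q * q ^ 3 by ring]
      exact Nat.mul_lt_mul_of_pos_left hbound (by omega)
    omega
  refine ⟨hm2, ?_⟩
  rw [hm2] at h
  have e : a * (E * f) = (q - 1) * (q + 1) := by
    obtain ⟨r, rfl⟩ := Nat.exists_eq_add_of_le (show 1 ≤ q by omega)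
    rw [Nat.add_sub_cancel_left]
    linarith
  rw [e] at hdvd
  exact Nat.dvd_of_mul_dvd_mul_left (by omega) hdvd

theorem pow_bound_three {d : ℕ} (hd : 5 ≤ d) : 24 * d < 3 ^ d := by
  induction d, hd using Nat.le_induction with
  | base => norm_num
  | succ n hn ih => rw [pow_succ]; omega

theorem pow_bound_seven {d : ℕ} (hd : 4 ≤ d) : 120 * d < 7 ^ d := by
  induction d, hd using Nat.le_induction with
  | base => norm_num
  | succ n hn ih => rw [pow_succ]; omega

theorem mul_le_pow {b d : ℕ} (hb : 2 ≤ b) (hd : 0 < d) : b * d ≤ b ^ d := by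
  induction d, hd using Nat.le_induction with
  | base => simp
  | succ n hn ih =>
    rw [pow_succ, mul_add, mul_one]
    have h1 : b ^ n * 2 ≤ b ^ n * b := Nat.mul_le_mul_left _ hb
    have h2 : b ≤ b ^ n := Nat.le_self_pow (by omega) b
    omega

theorem q8_numbers {p d m a E f : ℕ} (hp : p.Prime) (hp2 : p ≠ 2) (hd : 0 < d) (hm : Even m)
    (hm0 : 0 < m) (ha : a ∣ p ^ d - 1) (hf : f ∣ d) (hE : E ∣ 24)
    (h : a * (E * f) + 1 = (p ^ d) ^ m) :
    m = 2 ∧ d = 1 ∧ (p = 3 ∨ p = 5 ∨ p = 7 ∨ p = 11 ∨ p = 23) := by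
  have h3 : 3 ≤ p := by have := hp.two_le; omega
  have hq : 3 ^ d ≤ p ^ d := Nat.pow_le_pow_left h3 d
  have hq' := mul_le_pow (show 2 ≤ 3 by norm_num) hd
  have hbound : 24 * d < (p ^ d) ^ 3 := by
    calc 24 * d < 3 * 3 * (3 * d) := by omega
      _ ≤ p ^ d * p ^ d * p ^ d := by
        have : 3 ≤ p ^ d := by omega
        exact Nat.mul_le_mul (Nat.mul_le_mul this this) (by omega)
      _ = (p ^ d) ^ 3 := by ring
  obtain ⟨hm2, hdvd⟩ := reduce (by omega) hd hm hm0 ha hf hE (by norm_num) hbound h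
  have hle := Nat.le_of_dvd (by omega) hdvd
  have hd4 : d ≤ 4 := by
    by_contra hcon
    have := pow_bound_three (d := d) (by omega)
    omega
  refine ⟨hm2, ?_⟩
  have hd' : d = 1 ∨ d = 2 ∨ d = 3 ∨ d = 4 := by omega
  rcases hd' with rfl | rfl | rfl | rfl
  · simp only [pow_one, mul_one] at hdvd hle ⊢
    have : p ≤ 23 := by omega
    refine ⟨trivial, ?_⟩
    interval_cases p <;> norm_num at * <;> omega
  · exfalso
    have : p ≤ 6 := by nlinarith
    interval_cases p <;> norm_num at *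
  · exfalso
    have : p ≤ 4 := by nlinarith [Nat.pow_le_pow_left h3 2, show p ^ 3 = p ^ 2 * p by ring]
    interval_cases p <;> norm_num at *
  · exfalso
    have : p ≤ 3 := by
      by_contra hcon
      have := Nat.pow_le_pow_left (show 4 ≤ p by omega) 4
      omega
    interval_cases p <;> norm_num at *

theorem sl_numbers {p d m a e f : ℕ} (hp : p.Prime) (hp2 : p ≠ 2) (hd : 0 < d) (hm : Even m)
    (hm0 : 0 < m) (ha : a ∣ p ^ d - 1) (hae : Even a) (hf : f ∣ d) (he : e ∣ 2)
    (h : a * (60 * e * f) + 1 = (p ^ d) ^ m) :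
    m = 2 ∧ d = 1 ∧ ((p = 11 ∧ a = 2) ∨ (p = 19 ∧ a = 6) ∨ (p = 29 ∧ a = 14) ∨
      (p = 59 ∧ a = 58)) := by
  have hndvd : ¬ p ∣ 60 := by
    intro hd60
    have h1 : p ∣ a * (60 * e * f) := ((hd60.mul_right e).mul_right f).mul_left a
    have h2 : p ∣ (p ^ d) ^ m := dvd_pow (dvd_pow_self p hd.ne') hm0.ne'
    rw [← h] at h2
    exact hp.one_lt.ne' (Nat.dvd_one.mp ((Nat.dvd_add_right h1).mp h2))
  have h7 : 7 ≤ p := by
    by_contra hcon
    interval_cases p <;> norm_num at *
  have hq : 7 ^ d ≤ p ^ d := Nat.pow_le_pow_left h7 d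
  have hq' := mul_le_pow (show 2 ≤ 7 by norm_num) hd
  have hbound : 120 * d < (p ^ d) ^ 3 := by
    calc 120 * d < 7 * 7 * (7 * d) := by omega
      _ ≤ p ^ d * p ^ d * p ^ d := by
        have : 7 ≤ p ^ d := by omega
        exact Nat.mul_le_mul (Nat.mul_le_mul this this) (by omega)
      _ = (p ^ d) ^ 3 := by ring
  have h60 : 60 * e ∣ 120 := by
    rw [show (120 : ℕ) = 60 * 2 from rfl]; exact Nat.mul_dvd_mul_left 60 he
  obtain ⟨hm2, hdvd⟩ := reduce (by omega) hd hm hm0 ha hf h60 (by norm_num) hbound h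
  have hle := Nat.le_of_dvd (by omega) hdvd
  have hd3 : d ≤ 3 := by
    by_contra hcon
    have := pow_bound_seven (d := d) (by omega)
    omega
  refine ⟨hm2, ?_⟩
  have hd' : d = 1 ∨ d = 2 ∨ d = 3 := by omega
  rcases hd' with rfl | rfl | rfl
  · have hf1 : f = 1 := Nat.dvd_one.mp hf
    subst hf1 hm2
    simp only [pow_one, mul_one] at hdvd hle ha h ⊢
    have : p ≤ 119 := by omega
    refine ⟨trivial, ?_⟩
    have he' : e = 1 ∨ e = 2 := by
      have := Nat.le_of_dvd (by norm_num) he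
      rcases Nat.eq_zero_or_pos e with rfl | _
      · norm_num at he
      · omega
    obtain ⟨t, ht⟩ := hae
    rcases he' with rfl | rfl <;> interval_cases p <;> norm_num at * <;> omega
  · exfalso
    have : p ≤ 15 := by nlinarith
    interval_cases p <;> norm_num at *
  · exfalso
    have : p ≤ 7 := by
      by_contra hcon
      have := Nat.pow_le_pow_left (show 8 ≤ p by omega) 3
      omega
    interval_cases p <;> norm_num at *

end CfsgLib.RegLinear
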