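import Cfsg.Agent.Lib.Zassenhaus.Icosa

/-! Elements and automorphisms of `SL(2,5)` through the table. -/

namespace CfsgLib.Zassenhaus.Icosa

theorem card_sl25 : Nat.card SL25 = 120 := by
  rw [Nat.card_congr (Equiv.ofBijective (fun g : SL25 => idx (quad g)) ⟨idx_injective, fun i => ?_⟩),
    Nat.card_eq_fintype_card, Fintype.card_fin]
  obtain ⟨g, hg⟩ := exists_quad_eq i
  exact ⟨g, by simp only [hg, idx_mat]⟩

theorem forall_of_table {P : Quad → Prop} (h : ∀ i, P (mat i)) (g : SL25) : P (quad g) :=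
  mat_idx' g ▸ h _

theorem involution_table : ∀ i, qpow (mat i) 2 = (1, 0, 0, 1) →
    mat i = (1, 0, 0, 1) ∨ mat i = (-1, 0, 0, -1) := by decide +kernel

theorem center_table : ∀ i, (∀ s, qmul (mat i) (gen s) = qmul (gen s) (mat i)) →
    mat i = (1, 0, 0, 1) ∨ mat i = (-1, 0, 0, -1) := by decide +kernel

theorem neg_one_sq : (-1 : SL25) * -1 = 1 :=
  quad_injective (by rw [quad_mul, quad_neg_one, quad_one]; decide +kernel)

theorem neg_one_ne_one_sl : (-1 : SL25) ≠ 1 := fun h => by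
  have := congrArg quad h
  rw [quad_neg_one, quad_one] at this
  exact absurd this (by decide +kernel)

theorem eq_of_sq_eq_one {g : SL25} (h : g * g = 1) : g = 1 ∨ g = -1 := by
  have h2 : qpow (quad g) 2 = (1, 0, 0, 1) := by rw [← quad_pow, pow_two, h, quad_one]
  rcases forall_of_table (P := fun q => qpow q 2 = (1, 0, 0, 1) → q = (1, 0, 0, 1) ∨ q = (-1, 0, 0, -1))
    involution_table g h2 with e | e
  · exact Or.inl (quad_injective (e.trans quad_one.symm))
  · exact Or.inr (quad_injective (e.trans quad_neg_one.symm))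

theorem eq_of_central {g : SL25} (h : ∀ s, g * gsl s = gsl s * g) : g = 1 ∨ g = -1 := by
  rcases forall_of_table (P := fun q => (∀ s, qmul q (gen s) = qmul (gen s) q) →
    q = (1, 0, 0, 1) ∨ q = (-1, 0, 0, -1)) center_table g
    (fun s => by rw [← quad_gsl, ← quad_mul, ← quad_mul, h s]) with e | e
  · exact Or.inl (quad_injective (e.trans quad_one.symm))
  · exact Or.inr (quad_injective (e.trans quad_neg_one.symm))

theorem gsl_three (s : Fin 3) : gsl s ≠ 1 ∧ gsl s ^ 3 = 1 := by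
  have key : ∀ s : Fin 3, gen s ≠ (1, 0, 0, 1) ∧ qpow (gen s) 3 = (1, 0, 0, 1) := by decide +kernel
  refine ⟨fun h => (key s).1 ?_, quad_injective ?_⟩
  · rw [← quad_gsl, h, quad_one]
  · rw [quad_pow, quad_gsl, quad_one]; exact (key s).2

theorem gsl_rel : (gsl 0 * gsl 1) ^ 3 = -1 ∧ (gsl 0 * gsl 2) ^ 3 = -1 ∧
    (gsl 1 * gsl 2) ^ 2 = -1 := by
  refine ⟨?_, ?_, ?_⟩ <;>
  · apply quad_injective
    rw [quad_pow, quad_mul, quad_gsl, quad_gsl, quad_neg_one]
    decide +kernel

theorem commutator_gsl : ∃ i j : SL25, i * i = -1 ∧ i * j = (i * i) * (j * i) := by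
  refine ⟨⟨!![2, 0; 0, 3], by rw [Matrix.det_fin_two_of]; decide +kernel⟩,
    ⟨!![0, 1; 4, 0], by rw [Matrix.det_fin_two_of]; decide +kernel⟩, ?_, ?_⟩ <;>
  · apply quad_injective
    simp only [quad_mul, quad_neg_one]
    simp [quad, qmul]
    try decide +kernel

theorem mulAut_neg_one (α : MulAut SL25) : α (-1) = -1 := by
  rcases eq_of_sq_eq_one (g := α (-1)) (by rw [← map_mul, neg_one_sq, map_one]) with h | h
  · exact absurd (α.injective (h.trans (map_one α).symm)) neg_one_ne_one_sl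
  · exact h

theorem mulAut_ext {α β : MulAut SL25} (h : ∀ s, α (gsl s) = β (gsl s)) : α = β := by
  refine MulEquiv.ext fun g => ?_
  rw [eq_prod_word g, map_list_prod, map_list_prod, List.map_map, List.map_map]
  congr 1
  exact List.map_congr_left fun s _ => h s

/-- Modulo inner automorphisms there is at most one other automorphism. -/
theorem inner_or (α β : MulAut SL25) (hα : ∀ k, MulAut.conj k ≠ α) (hβ : ∀ k, MulAut.conj k ≠ β) :
    ∃ k, β * α⁻¹ = MulAut.conj k := by
  have swapped : ∀ γ : MulAut SL25, (∀ k, MulAut.conj k ≠ γ) → ∃ h,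
      ∀ s, γ (gsl s) = h * gsl (![0, 2, 1] s) * h⁻¹ := by
    intro γ hγ
    have t3 : ∀ s, γ (gsl s) ≠ 1 ∧ γ (gsl s) ^ 3 = 1 := fun s =>
      ⟨fun h => (gsl_three s).1 (γ.injective (h.trans (map_one γ).symm)),
        by rw [← map_pow, (gsl_three s).2, map_one]⟩
    obtain ⟨h, h0, h12⟩ := triple_orbit (t3 0) (t3 1) (t3 2)
      (by rw [← map_mul, ← map_pow, gsl_rel.1, mulAut_neg_one])
      (by rw [← map_mul, ← map_pow, gsl_rel.2.1, mulAut_neg_one])
      (by rw [← map_mul, ← map_pow, gsl_rel.2.2, mulAut_neg_one])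
    rcases h12 with ⟨h1, h2⟩ | ⟨h1, h2⟩
    · refine absurd (mulAut_ext fun s => ?_) (hγ h)
      rw [MulAut.conj_apply]
      fin_cases s
      · exact h0
      · exact h1
      · exact h2
    · refine ⟨h, fun s => ?_⟩
      fin_cases s
      · exact h0.symm
      · exact h1.symm
      · exact h2.symm
  obtain ⟨g, hg⟩ := swapped α hα
  obtain ⟨h, hh⟩ := swapped β hβ
  refine ⟨h * g⁻¹, ?_⟩
  rw [mul_inv_eq_iff_eq_mul]
  refine mulAut_ext fun s => ?_
  rw [MulAut.mul_apply, MulAut.conj_apply, hg, hh]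
  group

end CfsgLib.Zassenhaus.Icosa
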