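import Cfsg.Agent.Lib.RegLinear.Minimal
import Cfsg.Agent.Lib.RegLinear.SL25
import Cfsg.Agent.Lib.RegLinear.Numeric
import Cfsg.Agent.S3742

/-! The two exceptional cases of a regular linear group. -/

namespace CfsgLib.RegLinear

open Subgroup
open CfsgLib.Zassenhaus.Icosa (SL25)

variable {p : ℕ} [Fact p.Prime] {V : Type*} [AddCommGroup V] [Module (ZMod p) V] [Finite V]
  {H : Subgroup (V ≃ₗ[ZMod p] V)} {A : Subgroup H}

/-- A pair of anticommuting square roots of `-1`. -/
def HasPair {G : Type*} [Group G] (N : Subgroup G) : Prop :=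
  ∃ i ∈ N, ∃ j ∈ N, i * i ≠ 1 ∧ (i * i) * (i * i) = 1 ∧ i * j = (i * i) * (j * i)

theorem hasPair_of_iso {G L : Type*} [Group G] [Group L] {N : Subgroup G} (e : N ≃* L) {i j : L}
    (h1 : i * i ≠ 1) (h2 : (i * i) * (i * i) = 1) (h3 : i * j = (i * i) * (j * i)) : HasPair N := by
  refine ⟨_, (e.symm i).2, _, (e.symm j).2, fun h => h1 ?_, ?_, ?_⟩
  · exact e.symm.injective (Subtype.ext (by rw [map_mul, map_one]; exact h))
  · exact congrArg Subtype.val ((by rw [← map_mul, ← map_mul, h2, map_one]) :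
      (e.symm i * e.symm i) * (e.symm i * e.symm i) = 1)
  · exact congrArg Subtype.val ((by rw [← map_mul, ← map_mul, ← map_mul, ← map_mul, h3]) :
      e.symm i * e.symm j = (e.symm i * e.symm i) * (e.symm j * e.symm i))

theorem hasPair_of_cases {G : Type*} [Group G] {N : Subgroup G}
    (h : Nonempty (N ≃* QuaternionGroup 2) ∨ Nonempty (N ≃* SL25)) : HasPair N := by
  rcases h with ⟨⟨e⟩⟩ | ⟨⟨e⟩⟩
  · exact hasPair_of_iso e (i := QuaternionGroup.a 1) (j := QuaternionGroup.xa 0) (by decide)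
      (by decide) (by decide)
  · obtain ⟨i, j, hi, hij⟩ := CfsgLib.Zassenhaus.Icosa.commutator_gsl
    exact hasPair_of_iso e (by rw [hi]; exact CfsgLib.Zassenhaus.Icosa.neg_one_ne_one_sl)
      (by rw [hi]; exact CfsgLib.Zassenhaus.Icosa.neg_one_sq) hij

theorem Reg.anticommute (hreg : Reg H) {i j : H} (h1 : i * i ≠ 1) (h2 : (i * i) * (i * i) = 1)
    (h3 : i * j = (i * i) * (j * i)) : act H i * act H j = -(act H j * act H i) := by
  rw [← map_mul, ← map_mul, h3, map_mul, hreg.involution h1 h2, neg_one_mul]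

/-- Existence of a minimal nonabelian normal subgroup. -/
theorem exists_minimal_normal {D : Subgroup H} (hDn : D.Normal) (hD : ¬ IsMulCommutative D) :
    ∃ M : Subgroup H, M.Normal ∧ M ≤ D ∧ ¬ IsMulCommutative M ∧
      ∀ M' : Subgroup H, M'.Normal → M' ≤ M → ¬ IsMulCommutative M' → M' = M := by
  obtain ⟨M, ⟨hMn, hMD, hMna⟩, hmin⟩ := Set.exists_min_image
    {M : Subgroup H | M.Normal ∧ M ≤ D ∧ ¬ IsMulCommutative M} (fun M => Nat.card M)
    (Set.toFinite _) ⟨D, hDn, le_rfl, hD⟩
  exact ⟨M, hMn, hMD, hMna, fun M' h1 h2 h3 =>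
    Subgroup.eq_of_le_of_card_ge h2 (hmin M' ⟨h1, h2.trans hMD, h3⟩)⟩

theorem le_centralizer_self (hAc : IsMulCommutative A) : A ≤ centralizer (A : Set H) := fun a ha =>
  mem_centralizer_iff.mpr fun b hb => congrArg Subtype.val (hAc.is_comm.comm (⟨b, hb⟩ : A) ⟨a, ha⟩)

theorem le_centralizer_of_le {N : Subgroup H} (hNle : N ≤ centralizer (A : Set H)) :
    A ≤ centralizer (N : Set H) := fun a ha =>
  mem_centralizer_iff.mpr fun n hn => (mem_centralizer_iff.mp (hNle hn) a ha).symm

/-- Only `A` centralises both `A` and `N`. -/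
theorem inf_centralizer_eq (hreg : Reg H) [Nontrivial V] (hAn : A.Normal)
    (hAc : IsMulCommutative A) (hmax : IsMaxAbelian A) {N : Subgroup H} (hNn : N.Normal)
    (hNle : N ≤ centralizer (A : Set H)) (hpair : HasPair N) :
    centralizer (A : Set H) ⊓ centralizer (N : Set H) = A := by
  set D := centralizer (A : Set H) ⊓ centralizer (N : Set H) with hD
  have hDn : D.Normal := inferInstance
  refine le_antisymm ?_ (le_inf (le_centralizer_self hAc) (le_centralizer_of_le hNle))
  by_cases hDc : IsMulCommutative D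
  · exact hmax.le hAn hAc hDn hDc inf_le_left
  exfalso
  obtain ⟨M, hMn, hMD, hMna, hMmin⟩ := exists_minimal_normal hDn hDc
  obtain ⟨w, hw, -, -, hw1, hw2, -⟩ :=
    hasPair_of_cases (minimal_cases hreg hAn hAc hmax hMn (hMD.trans inf_le_left) hMna hMmin)
  obtain ⟨u, hu, v, hv, hu1, hu2, huv⟩ := hpair
  have hwC : w ∈ centralizer (N : Set H) := (hMD hw).2
  have huw : u * w = w * u := mem_centralizer_iff.mp hwC u hu
  have hz : u * u = w * w := hreg.involution_unique hu1 hu2 hw1 hw2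
  have ht : (u * w⁻¹) * (u * w⁻¹) = 1 := by
    have hc : Commute u w⁻¹ := (show Commute u w from huw).inv_right
    calc (u * w⁻¹) * (u * w⁻¹) = (u * u) * (w⁻¹ * w⁻¹) := by
          rw [mul_assoc, ← mul_assoc w⁻¹ u, ← hc.eq]; group
      _ = 1 := by rw [hz]; group
  have huC : u ∈ centralizer (N : Set H) := by
    by_cases h1 : u * w⁻¹ = 1
    · rwa [mul_inv_eq_one.mp h1]
    · have he := hreg.involution_unique h1 ht hu1 hu2
      rw [mul_inv_eq_iff_eq_mul] at he
      rw [he]
      exact mul_mem (mem_centralizer_iff.mpr fun n _ =>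
        (hreg.involution_central hu1 hu2 n).symm) hwC
  have hcomm : v * u = u * v := mem_centralizer_iff.mp huC v hv
  rw [hcomm] at huv
  exact hu1 (mul_eq_right.mp huv.symm)

/-- The automorphisms that `C(A)` induces on a normal subgroup. -/
theorem card_centralizer_eq (hreg : Reg H) [Nontrivial V] (hAn : A.Normal)
    (hAc : IsMulCommutative A) (hmax : IsMaxAbelian A) {N : Subgroup H} [N.Normal]
    (hNle : N ≤ centralizer (A : Set H)) (hpair : HasPair N) {L : Type*} [Group L] (e : N ≃* L) :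
    Nat.card (centralizer (A : Set H)) = Nat.card A * Nat.card
      (((MulAut.congr e).toMonoidHom.comp (MulAut.conjNormal.comp
        (centralizer (A : Set H)).subtype)).range) := by
  set C := centralizer (A : Set H) with hC
  set ψ : C →* MulAut L := (MulAut.congr e).toMonoidHom.comp (MulAut.conjNormal.comp C.subtype)
  have hker : ψ.ker = A.subgroupOf C := by
    ext c
    rw [MonoidHom.mem_ker, mem_subgroupOf, ← inf_centralizer_eq hreg hAn hAc hmax ‹_› hNle hpair,
      mem_inf, mem_centralizer_iff (s := (N : Set H))]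
    constructor
    · intro h
      have h' : (MulAut.conjNormal ((c : H)) : MulAut N) = 1 :=
        (MulAut.congr e).injective (h.trans (map_one _).symm)
      refine ⟨c.2, fun n hn => ?_⟩
      have := congrArg Subtype.val (congrArg (fun f : MulAut N => f ⟨n, hn⟩) h')
      simp only [MulAut.conjNormal_apply, MulAut.one_apply] at this
      rw [mul_inv_eq_iff_eq_mul] at this
      exact this.symm
    · rintro ⟨-, h⟩
      show MulAut.congr e (MulAut.conjNormal ((c : H))) = 1
      rw [show (MulAut.conjNormal ((c : H)) : MulAut N) = 1 from MulEquiv.ext fun n => Subtype.ext (by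
        rw [MulAut.conjNormal_apply, MulAut.one_apply, ← h _ n.2, mul_inv_cancel_right]), map_one]
  rw [← ψ.ker.card_mul_index, index_ker, hker,
    Nat.card_congr (subgroupOfEquivOfLe (le_centralizer_self hAc)).toEquiv]

theorem two_cosets {G : Type*} [Group G] [Finite G] {K R : Subgroup G} (hKR : K ≤ R)
    (h : ∀ x ∈ R, ∀ y ∈ R, x ∉ K → y ∉ K → y * x⁻¹ ∈ K) :
    ∃ e, e ∣ 2 ∧ Nat.card R = Nat.card K * e := by
  by_cases hRK : R ≤ K
  · exact ⟨1, one_dvd 2, by rw [le_antisymm hRK hKR, mul_one]⟩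
  obtain ⟨x, hxR, hxK⟩ := SetLike.not_le_iff_exists.mp hRK
  refine ⟨2, dvd_rfl, ?_⟩
  have hidx : (K.subgroupOf R).index = 2 := by
    rw [index_eq_two_iff]
    refine ⟨⟨x, hxR⟩⁻¹, fun b => ?_⟩
    simp only [mem_subgroupOf, Subgroup.coe_mul, Subgroup.coe_inv]
    by_cases hb : (b : G) ∈ K
    · exact Or.inr ⟨hb, fun hc => hxK (inv_mem_iff.mp (by
        have := mul_mem (inv_mem hb) hc
        rwa [inv_mul_cancel_left] at this))⟩
    · exact Or.inl ⟨h x hxR b b.2 hxK hb, hb⟩
  rw [← (K.subgroupOf R).card_mul_index, hidx,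
    Nat.card_congr (subgroupOfEquivOfLe hKR).toEquiv]

theorem isSolvable_mulAut_q8 : Group.IsSolvable (MulAut (QuaternionGroup 2)) := by
  obtain ⟨e⟩ := Cfsg.Agent.S3742.result
  have := CfsgLib.InvCharSmall.isSolvable_perm_four
  exact Group.isSolvable_of_isSolvable_injective (f := e.toMonoidHom) e.injective

theorem card_mulAut_q8 : Nat.card (MulAut (QuaternionGroup 2)) = 24 := by
  obtain ⟨e⟩ := Cfsg.Agent.S3742.result
  rw [Nat.card_congr e.toEquiv, Nat.card_eq_fintype_card, Fintype.card_perm, Fintype.card_fin]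
  rfl

theorem card_factor (hreg : Reg H) [Nontrivial V] (hAn : A.Normal) (hAc : IsMulCommutative A) :
    ∃ m f, 0 < m ∧ f ∣ deg A ∧ f = (centralizer (A : Set H)).index ∧
      Nat.card (centralizer (A : Set H)) * f + 1 = (p ^ deg A) ^ m ∧
      Nat.card V = (p ^ deg A) ^ m ∧
      (p ≠ 2 → ∀ N : Subgroup H, N ≤ centralizer (A : Set H) → HasPair N → Even m) := by
  obtain ⟨m, hm, hV, -, heven⟩ := exists_dim hreg hAn hAc
  refine ⟨m, _, hm, (cyclic_and_card hreg hAn hAc).2.2.2, rfl, ?_, hV, fun hp N hN hpair => ?_⟩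
  · rw [card_mul_index, ← hV, hreg.card_eq]
  · obtain ⟨i, hi, j, hj, h1, h2, h3⟩ := hpair
    exact heven i (hN hi) j (hN hj) hp (hreg.anticommute h1 h2 h3)

theorem center_le (hmax : IsMaxAbelian A) (hAn : A.Normal) (hAc : IsMulCommutative A)
    {N : Subgroup H} [N.Normal] (hNle : N ≤ centralizer (A : Set H)) {n : H} (hn : n ∈ N)
    (hc : ∀ k ∈ N, k * n = n * k) : n ∈ A :=
  hmax.le hAn hAc (B := N ⊓ centralizer (N : Set H)) inferInstance
    ⟨⟨fun a b => Subtype.ext (mem_centralizer_iff.mp b.2.2 a a.2.1)⟩⟩ (inf_le_left.trans hNle)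
    ⟨hn, mem_centralizer_iff.mpr hc⟩

/-- The quaternion case. -/
theorem q8_case (hreg : Reg H) [Nontrivial V] (hAn : A.Normal) (hAc : IsMulCommutative A)
    (hmax : IsMaxAbelian A) {N : Subgroup H} (hNn : N.Normal)
    (hNle : N ≤ centralizer (A : Set H)) (hN : Nonempty (N ≃* QuaternionGroup 2)) :
    centralizer (A : Set H) = ⊤ ∧ Nat.card V = p ^ 2 ∧
      (p = 3 ∨ p = 5 ∨ p = 7 ∨ p = 11 ∨ p = 23) ∧ Group.IsSolvable H := by
  have hpair := hasPair_of_cases (Or.inl hN)
  obtain ⟨i, hi, j, hj, h1, h2, h3⟩ := hpair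
  have hp2 : p ≠ 2 := hreg.prime_ne_two_of_involution h1 h2
  obtain ⟨e⟩ := hN
  obtain ⟨m, f, hm, hf, hfi, hcard, hV, heven⟩ := card_factor hreg hAn hAc
  have hpair : HasPair N := ⟨i, hi, j, hj, h1, h2, h3⟩
  rw [card_centralizer_eq hreg hAn hAc hmax hNle hpair e, mul_assoc] at hcard
  obtain ⟨hm2, hd1, hp⟩ := q8_numbers (Fact.out : p.Prime) hp2 (cyclic_and_card hreg hAn hAc).2.1
    (heven hp2 N hNle hpair) hm (cyclic_and_card hreg hAn hAc).2.2.1 hf
    (card_mulAut_q8 ▸ Subgroup.card_subgroup_dvd_card _) hcard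
  have hC : centralizer (A : Set H) = ⊤ := by
    rw [← index_eq_one, ← hfi]
    rw [hd1] at hf
    exact Nat.dvd_one.mp hf
  refine ⟨hC, by rw [hV, hm2, hd1, pow_one], hp, ?_⟩
  have := isSolvable_mulAut_q8
  have : Group.IsSolvable A := Group.isSolvable_of_comm fun a b => hAc.is_comm.comm a b
  refine Group.isSolvable_of_ker_le_range A.subtype
    ((MulAut.congr e).toMonoidHom.comp MulAut.conjNormal) (fun h hh => ?_)
  rw [range_subtype, ← inf_centralizer_eq hreg hAn hAc hmax hNn hNle hpair]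
  refine ⟨hC ▸ mem_top h, mem_centralizer_iff.mpr fun n hn => ?_⟩
  have h' : (MulAut.conjNormal h : MulAut N) = 1 :=
    (MulAut.congr e).injective ((MonoidHom.mem_ker.mp hh).trans (map_one _).symm)
  have := congrArg Subtype.val (congrArg (fun g : MulAut N => g ⟨n, hn⟩) h')
  simp only [MulAut.conjNormal_apply, MulAut.one_apply] at this
  rw [mul_inv_eq_iff_eq_mul] at this
  exact this.symm

/-- The case of `SL(2,5)`. -/
theorem sl25_case (hreg : Reg H) [Nontrivial V] (hAn : A.Normal) (hAc : IsMulCommutative A)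
    (hmax : IsMaxAbelian A) {N : Subgroup H} (hNn : N.Normal)
    (hNle : N ≤ centralizer (A : Set H)) (hN : Nonempty (N ≃* SL25)) :
    centralizer (A : Set H) = ⊤ ∧ Nat.card V = p ^ 2 ∧
      ((p = 11 ∧ Nat.card A = 2) ∨ (p = 29 ∧ Nat.card A = 14) ∨ (p = 59 ∧ Nat.card A = 58)) ∧
      IsCyclic A := by
  open CfsgLib.Zassenhaus.Icosa in
  have hpair := hasPair_of_cases (Or.inr hN)
  obtain ⟨i, hi, j, hj, h1, h2, h3⟩ := hpair
  have hp2 : p ≠ 2 := hreg.prime_ne_two_of_involution h1 h2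
  obtain ⟨θ⟩ := hN
  have hpair : HasPair N := ⟨i, hi, j, hj, h1, h2, h3⟩
  obtain ⟨m, f, hm, hf, hfi, hcard, hV, heven⟩ := card_factor hreg hAn hAc
  rw [card_centralizer_eq hreg hAn hAc hmax hNle hpair θ] at hcard
  set ψ := (MulAut.congr θ).toMonoidHom.comp (MulAut.conjNormal.comp
    (centralizer (A : Set H)).subtype) with hψ
  set Inn := (MulAut.conj (G := SL25)).range with hInn
  have hInnle : Inn ≤ ψ.range := by
    rintro _ ⟨k, rfl⟩
    refine ⟨⟨(θ.symm k : H), hNle (θ.symm k).2⟩, MulEquiv.ext fun x => ?_⟩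
    show θ (MulAut.conjNormal ((θ.symm k : N) : H) (θ.symm x)) = k * x * k⁻¹
    rw [show MulAut.conjNormal ((θ.symm k : N) : H) (θ.symm x) =
      θ.symm k * θ.symm x * (θ.symm k)⁻¹ from Subtype.ext (MulAut.conjNormal_apply _ _)]
    rw [← map_inv θ.symm, ← map_mul, ← map_mul, MulEquiv.apply_symm_apply]
  obtain ⟨ε, hε, hR⟩ := two_cosets hInnle (fun x _ y _ hx hy => by
    obtain ⟨k, hk⟩ := CfsgLib.Zassenhaus.Icosa.inner_or x y (fun k hk => hx ⟨k, hk⟩)
      (fun k hk => hy ⟨k, hk⟩)
    exact ⟨k, hk.symm⟩)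
  have hInn60 : Nat.card Inn = 60 := by
    have hk : ((MulAut.conj (G := SL25)).ker : Set SL25) = {1, -1} := by
      ext g
      simp only [SetLike.mem_coe, MonoidHom.mem_ker, Set.mem_insert_iff, Set.mem_singleton_iff]
      constructor
      · intro hg
        refine CfsgLib.Zassenhaus.Icosa.eq_of_central fun s => ?_
        have := congrArg (fun a : MulAut SL25 => a (CfsgLib.Zassenhaus.Icosa.gsl s)) hg
        simp only [MulAut.conj_apply, MulAut.one_apply] at this
        rwa [mul_inv_eq_iff_eq_mul] at this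
      · rintro (rfl | rfl)
        · exact map_one _
        · refine MulEquiv.ext fun x => ?_
          rw [MulAut.conj_apply, MulAut.one_apply, mul_inv_eq_iff_eq_mul, mul_neg_one, neg_one_mul]
    have h := (MulAut.conj (G := SL25)).ker.card_mul_index
    rw [index_ker, CfsgLib.Zassenhaus.Icosa.card_sl25, ← SetLike.coe_sort_coe, Nat.card_coe_set_eq,
      hk, Set.ncard_pair (Ne.symm CfsgLib.Zassenhaus.Icosa.neg_one_ne_one_sl)] at h
    change 2 * Nat.card Inn = 120 at h
    omega
  rw [hR, hInn60, mul_assoc] at hcard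
  set z : H := ((θ.symm (-1) : N) : H) with hz
  have hzA : z ∈ A := center_le hmax hAn hAc hNle (θ.symm (-1)).2 fun k hk =>
    congrArg Subtype.val (θ.injective (by
      rw [map_mul, map_mul, MulEquiv.apply_symm_apply, mul_neg_one, neg_one_mul]) :
      (⟨k, hk⟩ : N) * θ.symm (-1) = θ.symm (-1) * ⟨k, hk⟩)
  have hae : Even (Nat.card A) := by
    have ho : orderOf z = 2 := by
      rw [hz, Subgroup.orderOf_coe, MulEquiv.orderOf_eq]
      exact orderOf_eq_prime (by rw [pow_two]; exact CfsgLib.Zassenhaus.Icosa.neg_one_sq)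
        CfsgLib.Zassenhaus.Icosa.neg_one_ne_one_sl
    exact even_iff_two_dvd.mpr (ho ▸ Subgroup.orderOf_dvd_natCard A hzA)
  obtain ⟨hm2, hd1, hp⟩ := sl_numbers (Fact.out : p.Prime) hp2 (cyclic_and_card hreg hAn hAc).2.1
    (heven hp2 N hNle hpair) hm (cyclic_and_card hreg hAn hAc).2.2.1 hae hf hε hcard
  have hC : centralizer (A : Set H) = ⊤ := by
    rw [← index_eq_one, ← hfi]
    rw [hd1] at hf
    exact Nat.dvd_one.mp hf
  refine ⟨hC, by rw [hV, hm2, hd1, pow_one], ?_, (cyclic_and_card hreg hAn hAc).1⟩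
  rcases hp with hp | ⟨-, ha⟩ | hp | hp
  · exact Or.inl hp
  · exfalso
    have : Fact (Nat.Prime 3) := ⟨Nat.prime_three⟩
    obtain ⟨x, hx⟩ := exists_prime_orderOf_dvd_card' (G := A) 3 (by rw [ha]; norm_num)
    obtain ⟨hg1, hg3⟩ := CfsgLib.Zassenhaus.Icosa.gsl_three 0
    set y : N := θ.symm (CfsgLib.Zassenhaus.Icosa.gsl 0) with hy
    have hx1 : (x : H) ≠ 1 := fun h => by
      rw [← Subgroup.orderOf_coe, h, orderOf_one] at hx; exact absurd hx (by norm_num)
    have hxy : Commute (act H (x : H)) (act H (y : H)) := by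
      show _ = _
      rw [← map_mul, ← map_mul, mem_centralizer_iff.mp (hNle y.2) (x : H) x.2]
    set X := act H (x : H) with hX
    set Y := act H (y : H) with hY
    have hY3 : Y * (Y * Y) = 1 := by
      have hy3 : y ^ 3 = 1 := by rw [hy, ← map_pow, hg3, map_one]
      rw [hY, ← map_mul, ← map_mul, ← Subgroup.coe_mul, ← Subgroup.coe_mul, ← pow_two, ← pow_succ',
        hy3, OneMemClass.coe_one, map_one]
    have hX3 : X * (X * X) = 1 := by
      have hx3 : x ^ 3 = 1 := by rw [← hx, pow_orderOf_eq_one]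
      rw [hX, ← map_mul, ← map_mul, ← Subgroup.coe_mul, ← Subgroup.coe_mul, ← pow_two, ← pow_succ',
        hx3, OneMemClass.coe_one, map_one]
    have cancel : ∀ g : H, g ≠ 1 → ∀ T : Module.End (ZMod p) V, (act H g - 1) * T = 0 → T = 0 := by
      intro g hg T hT
      refine LinearMap.ext fun v => ?_
      by_contra hne
      refine hg (hreg.eq_one (v := T v) hne ?_)
      have := LinearMap.congr_fun hT v
      rwa [Module.End.mul_apply, LinearMap.sub_apply, Module.End.one_apply, LinearMap.zero_apply,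
        sub_eq_zero] at this
    have hX2 : 1 + X + X * X = 0 := cancel _ hx1 _ (by
      rw [← hX, sub_mul, one_mul, mul_add, mul_add, mul_one, hX3]; abel)
    have hy1 : (y : H) ≠ 1 := fun h => hg1 (by
      have : y = 1 := Subtype.ext h
      rw [hy, MulEquiv.symm_apply_eq, map_one] at this
      exact this)
    have hY2 : 1 + Y + Y * Y = 0 := cancel _ hy1 _ (by
      rw [← hY, sub_mul, one_mul, mul_add, mul_add, mul_one, hY3]; abel)
    have hprod : (Y - X) * (Y - X * X) = 0 := by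
      have e : (Y - X) * (Y - X * X) = (1 + Y + Y * Y) - Y * (1 + X + X * X) + (X * (X * X) - 1) := by
        simp only [sub_mul, mul_sub, mul_add, mul_one, ← hxy.eq, ← mul_assoc]
        abel
      rw [e, hY2, hX2, hX3]; simp
    have hyA : (y : H) ∈ A := by
      by_cases hxy' : (y : H) = (x : H)
      · exact hxy' ▸ x.2
      have hne : (x : H)⁻¹ * y ≠ 1 := fun h => hxy' (inv_mul_eq_one.mp h).symm
      have : Y - X * X = 0 := cancel _ hne _ (by
        have e : act H ((x : H)⁻¹ * y) - 1 = act H (x : H)⁻¹ * (Y - X) := by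
          rw [mul_sub, hX, hY, act_inv_mul, map_mul]
        rw [e, mul_assoc, hprod, mul_zero])
      rw [sub_eq_zero, hX, hY, ← map_mul] at this
      exact act_injective this ▸ mul_mem x.2 x.2
    have hcen : ∀ s, CfsgLib.Zassenhaus.Icosa.gsl 0 * CfsgLib.Zassenhaus.Icosa.gsl s =
        CfsgLib.Zassenhaus.Icosa.gsl s * CfsgLib.Zassenhaus.Icosa.gsl 0 := by
      intro s
      apply θ.symm.injective
      rw [map_mul, map_mul]
      exact Subtype.ext (mem_centralizer_iff.mp (hNle (θ.symm _).2) _ hyA)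
    rcases CfsgLib.Zassenhaus.Icosa.eq_of_central hcen with h | h
    · exact hg1 h
    · rw [h, pow_succ, pow_two, CfsgLib.Zassenhaus.Icosa.neg_one_sq, one_mul] at hg3
      exact CfsgLib.Zassenhaus.Icosa.neg_one_ne_one_sl hg3
  · exact Or.inr (Or.inl hp)
  · exact Or.inr (Or.inr hp)

end CfsgLib.RegLinear
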