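import Cfsg.Agent.Lib.RegLinear.Basic
import Cfsg.Agent.Lib.Zassenhaus.Perfect

/-! Minimal nonabelian normal subgroups centralising a maximal normal abelian subgroup. -/

namespace CfsgLib.RegLinear

open Subgroup
open scoped commutatorElement

variable {p : ℕ} [Fact p.Prime] {V : Type*} [AddCommGroup V] [Module (ZMod p) V] [Finite V]
  {H : Subgroup (V ≃ₗ[ZMod p] V)}

/-- Maximal among normal abelian subgroups. -/
def IsMaxAbelian (A : Subgroup H) : Prop :=
  ∀ B : Subgroup H, B.Normal → IsMulCommutative B → A ≤ B → B = A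

variable {A : Subgroup H}

theorem IsMaxAbelian.le (hmax : IsMaxAbelian A) (hAn : A.Normal) (hAc : IsMulCommutative A)
    {B : Subgroup H} (hBn : B.Normal) (hBc : IsMulCommutative B)
    (hB : B ≤ centralizer (A : Set H)) : B ≤ A := by
  have : IsMulCommutative (closure ((A : Set H) ∪ B)) := by
    refine Subgroup.isMulCommutative_closure fun x hx y hy => ?_
    rcases hx with hx | hx <;> rcases hy with hy | hy
    · exact congrArg Subtype.val (hAc.is_comm.comm (⟨x, hx⟩ : A) ⟨y, hy⟩)
    · exact mem_centralizer_iff.mp (hB hy) x hx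
    · exact (mem_centralizer_iff.mp (hB hx) y hy).symm
    · exact congrArg Subtype.val (hBc.is_comm.comm (⟨x, hx⟩ : B) ⟨y, hy⟩)
  rw [Subgroup.closure_union, closure_eq, closure_eq] at this
  exact (le_sup_right : B ≤ A ⊔ B).trans (hmax _ inferInstance this le_sup_left).le

theorem Reg.involution (hreg : Reg H) {h : H} (h1 : h ≠ 1) (h2 : h * h = 1) : act H h = -1 := by
  refine LinearMap.ext fun v => ?_
  rw [LinearMap.neg_apply, Module.End.one_apply]
  by_contra hne
  refine h1 (hreg.eq_one (v := act H h v + v) (fun h0 => hne (eq_neg_of_add_eq_zero_left h0)) ?_)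
  rw [map_add, ← Module.End.mul_apply, ← map_mul, h2, map_one, Module.End.one_apply, add_comm]

theorem Reg.involution_unique (hreg : Reg H) {a b : H} (ha : a ≠ 1) (ha2 : a * a = 1) (hb : b ≠ 1)
    (hb2 : b * b = 1) : a = b :=
  act_injective ((hreg.involution ha ha2).trans (hreg.involution hb hb2).symm)

theorem Reg.involution_central (hreg : Reg H) {z : H} (hz : z ≠ 1) (hz2 : z * z = 1) (h : H) :
    z * h = h * z :=
  act_injective (by rw [map_mul, map_mul, hreg.involution hz hz2, neg_one_mul, mul_neg_one])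

theorem Reg.prime_ne_two_of_involution (hreg : Reg H) [Nontrivial V] {z : H} (hz : z ≠ 1)
    (hz2 : z * z = 1) : p ≠ 2 := by
  intro hp
  obtain ⟨v, hv⟩ := exists_ne (0 : V)
  refine hz (hreg.eq_one hv ?_)
  rw [hreg.involution hz hz2, LinearMap.neg_apply, Module.End.one_apply, neg_eq_iff_add_eq_zero,
    ← two_smul (ZMod p) v]
  subst hp
  exact zero_smul (ZMod 2) v

variable (H) in
/-- The action on the multiplicative version of the space. -/
@[reducible] def mulAction (N : Subgroup H) : MulDistribMulAction N (Multiplicative V) where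
  smul n v := Multiplicative.ofAdd (act H (n : H) (Multiplicative.toAdd v))
  one_smul v := by show Multiplicative.ofAdd (act H 1 _) = v; simp
  mul_smul a b v := by
    show Multiplicative.ofAdd (act H ((a : H) * b) _) = Multiplicative.ofAdd (act H a (act H b _))
    rw [map_mul]; rfl
  smul_mul a v w := by
    show Multiplicative.ofAdd (act H a (Multiplicative.toAdd v + Multiplicative.toAdd w)) = _
    rw [map_add]; rfl
  smul_one a := by
    show Multiplicative.ofAdd (act H a 0) = 1
    rw [map_zero]; rfl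

theorem Reg.isFPF (hreg : Reg H) (N : Subgroup H) :
    letI := mulAction H N
    CfsgLib.Frobenius.IsFPF N (Multiplicative V) := by
  intro a ha v hv
  by_contra hv1
  exact ha (Subtype.ext (hreg.eq_one (h := (a : H)) (v := Multiplicative.toAdd v) hv1 hv))

theorem Reg.exists_rep (hreg : Reg H) [Nontrivial V] (N : Subgroup H) :
    ∃ (n : ℕ) (φ : N →* Module.End (AlgebraicClosure ℚ) (Fin n → AlgebraicClosure ℚ)),
      0 < n ∧ CfsgLib.Zassenhaus.FPF φ := by
  letI := mulAction H N
  obtain ⟨n, ρ, hn, -, -, hfix⟩ := CfsgLib.Recognition.exists_fpf_rep (hreg.isFPF N)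
  let φ : N →* Module.End (AlgebraicClosure ℚ) (Fin n → AlgebraicClosure ℚ) :=
    (Matrix.toLinAlgEquiv' : Matrix (Fin n) (Fin n) (AlgebraicClosure ℚ) ≃ₐ[AlgebraicClosure ℚ] _).toMonoidHom.comp
      ((Units.coeHom (Matrix (Fin n) (Fin n) (AlgebraicClosure ℚ))).comp ρ)
  exact ⟨n, φ, hn, fun g hg v hv => hfix g hg v (by simpa [φ] using hv)⟩

/-- A fixed point free `q`-group of odd prime `q` is cyclic. -/
theorem Reg.isCyclic_of_isPGroup (hreg : Reg H) [Nontrivial V] (N : Subgroup H) {q : ℕ}
    [Fact q.Prime] (hq : q ≠ 2) (hN : IsPGroup q N) : IsCyclic N := by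
  obtain ⟨n, φ, hn, hF⟩ := hreg.exists_rep N
  have : Nonempty (Fin n) := ⟨⟨0, hn⟩⟩
  have : Algebra.IsAlgebraic ℚ (AlgebraicClosure ℚ) := by
    convert AlgebraicClosure.isAlgebraic ℚ <;> first | rfl | exact Subsingleton.elim _ _
  obtain ⟨P, hP⟩ := (hN.to_subgroup (⊤ : Subgroup N)).exists_le_sylow
  have := CfsgLib.Zassenhaus.isCyclic_sylow hF hq P
  have e : (P : Subgroup N) = ⊤ := top_le_iff.mp hP
  rw [e] at this
  exact Subgroup.topEquiv.isCyclic.1 this

theorem quaternion_eq_eight {n : ℕ} (hn : 1 ≤ n)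
    (hc : ⁅(QuaternionGroup.a 1 : QuaternionGroup (2 ^ n)), QuaternionGroup.xa 0⁆ ∈
      center (QuaternionGroup (2 ^ n))) : n = 1 := by
  have : NeZero (2 ^ n) := ⟨(pow_pos two_pos n).ne'⟩
  have h := mem_center_iff.mp hc (QuaternionGroup.xa 0)
  rw [commutatorElement_def] at h
  rw [show (QuaternionGroup.a 1 : QuaternionGroup (2 ^ n))⁻¹ = QuaternionGroup.a (-1) from rfl,
    show (QuaternionGroup.xa 0 : QuaternionGroup (2 ^ n))⁻¹ =
      QuaternionGroup.xa (((2 ^ n : ℕ) : ZMod (2 * 2 ^ n)) + 0) from rfl] at h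
  simp only [QuaternionGroup.a_mul_a, QuaternionGroup.a_mul_xa, QuaternionGroup.xa_mul_a,
    QuaternionGroup.xa_mul_xa, QuaternionGroup.xa.injEq] at h
  by_contra hne
  have h4 : ((4 : ℕ) : ZMod (2 * 2 ^ n)) = 0 := by
    have hz : ((2 * 2 ^ n : ℕ) : ZMod (2 * 2 ^ n)) = 0 := ZMod.natCast_self _
    push_cast at hz h ⊢
    linear_combination h - 2 * hz
  rw [ZMod.natCast_eq_zero_iff] at h4
  have := Nat.le_of_dvd (by norm_num) h4
  have : 2 ^ 2 ≤ 2 ^ n := Nat.pow_le_pow_right two_pos (by omega)
  omega

/-- A minimal nonabelian normal subgroup centralising `A` is `Q₈` or `SL(2,5)`. -/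
theorem minimal_cases (hreg : Reg H) [Nontrivial V] (hAn : A.Normal) (hAc : IsMulCommutative A)
    (hmax : IsMaxAbelian A) {N : Subgroup H} (hNn : N.Normal)
    (hNle : N ≤ centralizer (A : Set H)) (hNna : ¬ IsMulCommutative N)
    (hNmin : ∀ M : Subgroup H, M.Normal → M ≤ N → ¬ IsMulCommutative M → M = N) :
    Nonempty (N ≃* QuaternionGroup 2) ∨
      Nonempty (N ≃* Matrix.SpecialLinearGroup (Fin 2) (ZMod 5)) := by
  have hntriv : Nontrivial N := by
    by_contra h
    rw [not_nontrivial_iff_subsingleton] at h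
    exact hNna ⟨⟨fun a b => Subsingleton.elim _ _⟩⟩
  by_cases hperf : commutator N = ⊤
  · right
    letI := mulAction H N
    exact CfsgLib.Zassenhaus.perfect_fpf_iso_sl25 (hreg.isFPF N) hperf hntriv
  left
  set M := (commutator N).map N.subtype with hM
  have hMn : M.Normal := inferInstance
  have hMne : M ≠ N := fun he => hperf (map_injective N.subtype_injective
    (by rw [← hM, he, ← MonoidHom.range_eq_map, range_subtype]))
  have hMc : IsMulCommutative M :=
    not_not.mp fun h => hMne (hNmin M hMn (map_subtype_le _) h)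
  have hMA : M ≤ A := hmax.le hAn hAc hMn hMc ((map_subtype_le _).trans hNle)
  have hcen : commutator N ≤ center N := fun x hx => mem_center_iff.mpr fun y =>
    Subtype.ext (mem_centralizer_iff.mp (hNle y.2) x (hMA ⟨x, hx, rfl⟩)).symm
  have hnil : Group.IsNilpotent N := by
    refine Group.of_quotient_center_nilpotent ?_
    have : IsMulCommutative (N ⧸ center N) :=
      Subgroup.Normal.quotient_commutative_iff_commutator_le.mpr hcen
    letI : CommGroup (N ⧸ center N) := { (inferInstance : Group (N ⧸ center N)) with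
      mul_comm := this.is_comm.comm }
    exact inferInstance
  have hnorm : ∀ {q : ℕ} [Fact q.Prime] (P : Sylow q N), (P : Subgroup N).Normal :=
    fun P => P.normal_of_normalizerCondition Group.normalizerCondition_of_isNilpotent
  obtain ⟨q, hq, P, hPna⟩ : ∃ (q : ℕ) (_ : q.Prime) (P : Sylow q N),
      ¬ IsMulCommutative (P : Subgroup N) := by
    by_contra hall
    simp only [not_exists, not_not] at hall
    let e := Sylow.directProductOfNormal (G := N) (fun {q} _ P => hnorm P)
    refine hNna ⟨⟨fun a b => e.symm.injective ?_⟩⟩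
    rw [map_mul, map_mul]
    funext q P
    exact (hall q (Nat.prime_of_mem_primeFactors q.2) P).is_comm.comm _ _
  have := Fact.mk hq
  have hPchar : (P : Subgroup N).Characteristic := P.characteristic_of_normal (hnorm P)
  have hPN : ((P : Subgroup N).map N.subtype) = N := by
    refine hNmin _ inferInstance (map_subtype_le _) fun hc => hPna ⟨⟨fun a b => ?_⟩⟩
    have := congrArg Subtype.val (hc.is_comm.comm
      (⟨((a : N) : H), (a : N), a.2, rfl⟩ : (P : Subgroup N).map N.subtype)
      ⟨((b : N) : H), (b : N), b.2, rfl⟩)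
    exact Subtype.ext (Subtype.ext this)
  have htop : (P : Subgroup N) = ⊤ := map_injective N.subtype_injective
    (by rw [hPN, ← MonoidHom.range_eq_map, range_subtype])
  have hNq : IsPGroup q N := by
    have := P.2
    rw [htop] at this
    exact this.of_equiv Subgroup.topEquiv
  have notcyc : ¬ IsCyclic N := fun h => hNna IsCyclic.isMulCommutative
  have hq2 : q = 2 := by
    by_contra h
    exact notcyc (hreg.isCyclic_of_isPGroup N h hNq)
  subst hq2
  have h1 : ∀ a b : N, orderOf a = 2 → orderOf b = 2 → a = b := by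
    intro a b ha hb
    have key : ∀ c : N, orderOf c = 2 → (c : H) ≠ 1 ∧ (c : H) * c = 1 := fun c hc =>
      ⟨fun h => by rw [← Subgroup.orderOf_coe, h, orderOf_one] at hc; exact absurd hc (by norm_num),
        congrArg Subtype.val (show c * c = 1 by rw [← pow_two, ← hc, pow_orderOf_eq_one])⟩
    exact Subtype.ext (hreg.involution_unique (key a ha).1 (key a ha).2 (key b hb).1 (key b hb).2)
  rcases CfsgLib.TwoGroups.OneInvolution.isCyclic_or_quaternion hNq h1 with hc | ⟨n, hn, ⟨e⟩⟩
  · exact absurd hc notcyc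
  have hn1 : n = 1 := by
    refine quaternion_eq_eight hn (mem_center_iff.mpr fun g => e.symm.injective ?_)
    rw [map_mul, map_mul, map_commutatorElement]
    exact mem_center_iff.mp (hcen (Subgroup.commutator_mem_commutator (mem_top _) (mem_top _))) _
  subst hn1
  exact ⟨e⟩

end CfsgLib.RegLinear
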