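import Mathlib.LinearAlgebra.Matrix.GeneralLinearGroup.Defs
import Mathlib.GroupTheory.OrderOfElement

/-! A subgroup of a finite matrix group given by a list of words in its generators. -/

namespace CfsgLib.RegLinear

variable {n : Type*} [Fintype n] [DecidableEq n] {R : Type*} [CommRing R] [Fintype R]
  [DecidableEq R] {ι : Type*}

theorem mem_closure_iff_words (g : ι → Matrix.GeneralLinearGroup n R) (f : ι → Matrix n n R)
    (hg : ∀ i, (g i : Matrix n n R) = f i) (ws : List (List ι))
    (h1 : (1 : Matrix n n R) ∈ ws.map fun w => (w.map f).prod)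
    (hstep : ∀ w ∈ ws, ∀ i, (w.map f).prod * f i ∈ ws.map fun w => (w.map f).prod)
    (x : Matrix.GeneralLinearGroup n R) :
    x ∈ Subgroup.closure (Set.range g) ↔ (x : Matrix n n R) ∈ ws.map fun w => (w.map f).prod := by
  have hval : ∀ w : List ι, (((w.map g).prod : Matrix.GeneralLinearGroup n R) : Matrix n n R) =
      (w.map f).prod := by
    intro w
    induction w with
    | nil => simp
    | cons i w ih => simp [ih, hg]
  have hfin : Finite (Matrix.GeneralLinearGroup n R) :=
    Finite.of_injective (fun g => (g : Matrix n n R)) fun _ _ h => Units.ext h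
  constructor
  · intro hx
    have hm : x ∈ Submonoid.closure (Set.range g) := by
      rw [← Subgroup.closure_toSubmonoid_of_finite]; exact hx
    induction hm using Submonoid.closure_induction_right with
    | one => simpa using h1
    | mul_right y hy i hi ih =>
      obtain ⟨i, rfl⟩ := hi
      obtain ⟨w, hw, hwy⟩ := List.mem_map.mp (ih (by
        rw [← Subgroup.mem_toSubmonoid, Subgroup.closure_toSubmonoid_of_finite]; exact hy))
      rw [Units.val_mul, ← hwy, hg]
      exact hstep w hw i
  · intro hx
    obtain ⟨w, -, hw⟩ := List.mem_map.mp hx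
    have : x = (w.map g).prod := Units.ext (by rw [hval, hw])
    rw [this]
    exact list_prod_mem fun a ha => by
      obtain ⟨i, -, rfl⟩ := List.mem_map.mp ha
      exact Subgroup.subset_closure ⟨i, rfl⟩

theorem card_and_regular_of_words (g : ι → Matrix.GeneralLinearGroup n R) (f : ι → Matrix n n R)
    (hg : ∀ i, (g i : Matrix n n R) = f i) (ws : List (List ι))
    (h1 : (1 : Matrix n n R) ∈ ws.map fun w => (w.map f).prod)
    (hstep : ∀ w ∈ ws, ∀ i, (w.map f).prod * f i ∈ ws.map fun w => (w.map f).prod)
    (hnodup : (ws.map fun w => (w.map f).prod).Nodup)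
    (hreg : ∀ v : n → R, v ≠ 0 →
      ((ws.map fun w => (w.map f).prod).map fun M => M.mulVec v).Nodup ∧
      ∀ w : n → R, w ≠ 0 → w ∈ (ws.map fun w => (w.map f).prod).map fun M => M.mulVec v) :
    Nat.card (Subgroup.closure (Set.range g)) = ws.length ∧
      ∀ v w : n → R, v ≠ 0 → w ≠ 0 →
        ∃! h : Subgroup.closure (Set.range g),
          Matrix.mulVec ((h : Matrix.GeneralLinearGroup n R) : Matrix n n R) v = w := by
  set L := ws.map fun w => (w.map f).prod with hL
  have hmem := mem_closure_iff_words g f hg ws h1 hstep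
  have hex : ∀ M ∈ L, ∃ h : Subgroup.closure (Set.range g),
      ((h : Matrix.GeneralLinearGroup n R) : Matrix n n R) = M := by
    intro M hM
    obtain ⟨w, -, hw⟩ := List.mem_map.mp hM
    have hv : (((w.map g).prod : Matrix.GeneralLinearGroup n R) : Matrix n n R) = M := by
      rw [← hw]
      clear hw hM
      induction w with
      | nil => simp
      | cons i w ih => simp [ih, hg]
    exact ⟨⟨(w.map g).prod, (hmem _).mpr (hv ▸ hM)⟩, hv⟩
  refine ⟨?_, fun v w hv hw => ?_⟩
  · have e : Subgroup.closure (Set.range g) ≃ L.toFinset :=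
      Equiv.ofBijective (fun h => ⟨_, List.mem_toFinset.mpr ((hmem h.1).mp h.2)⟩)
        ⟨fun a b h => Subtype.ext (Units.ext (congrArg Subtype.val h)), fun M => by
          obtain ⟨h, hh⟩ := hex M.1 (List.mem_toFinset.mp M.2)
          exact ⟨h, Subtype.ext hh⟩⟩
    rw [Nat.card_congr e, Nat.card_eq_fintype_card, Fintype.card_coe,
      List.toFinset_card_of_nodup hnodup, hL, List.length_map]
  · obtain ⟨hnd, hall⟩ := hreg v hv
    obtain ⟨M, hM, hMw⟩ := List.mem_map.mp (hall w hw)
    obtain ⟨h, hh⟩ := hex M hM
    refine ⟨h, by simp only [hh, hMw], fun k hk => Subtype.ext (Units.ext ?_)⟩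
    exact List.inj_on_of_nodup_map hnd ((hmem k.1).mp k.2) (hh ▸ hM) (by rw [hk, hh, hMw])

end CfsgLib.RegLinear
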